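import Cfsg.Agent.MaxSub.QuadraticBasic
import Cfsg.Agent.MaxSub.UnitarySimilarity

/-!
# Similarity groups of quadratic forms are maximal in `SL_n`, `n ≥ 4`, odd characteristic

An element of an overgroup `M` that is no similarity yields one that fixes a singular vector:
otherwise `M` would have at most `q ^ (n - 2)` cosets of the similarities, so every element would
conjugate a non-trivial Siegel element at a singular vector `z` into an isometry, which makes the
image of `z` singular. An element fixing `z` which is no similarity gives, by multiplying conjugate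
Siegel elements at `z`, a transvection with centre `z`, hence an isotropic root group.
-/

set_option autoImplicit false
set_option linter.unusedSectionVars false

namespace CfsgLib.SimilarityMax.Four

open Matrix Cfsg.Geo CfsgLib.MaxSub

variable {ι : Type} [Fintype ι] [DecidableEq ι] {F : Type*} [Field F] [Fintype F]
  {Q : (ι → F) → F}

local notation "B" => QuadraticMap.polar Q

theorem mulVec_inv_cancel (g : GL ι F) (x : ι → F) :
    ((g⁻¹ : GL ι F) : Matrix ι ι F) *ᵥ ((g : Matrix ι ι F) *ᵥ x) = x := by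
  rw [mulVec_mulVec, Units.inv_mul, one_mulVec]

theorem mulVec_cancel_inv (g : GL ι F) (x : ι → F) :
    (g : Matrix ι ι F) *ᵥ (((g⁻¹ : GL ι F) : Matrix ι ι F) *ᵥ x) = x := by
  rw [mulVec_mulVec, Units.mul_inv, one_mulVec]

theorem mem_dotsKer_one (hQ : IsNondegenerateQuadraticForm Q) {u x : ι → F}
    (h : x ∈ dotsKer ![leftVec B u]) : B x u = 0 := by
  have := (mem_dotsKer.mp h) 0
  simpa [leftVec_dot hQ] using this

theorem mem_dotsKer_two (hQ : IsNondegenerateQuadraticForm Q) {u v x : ι → F}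
    (h : x ∈ dotsKer ![leftVec B u, leftVec B v]) : B x u = 0 ∧ B x v = 0 := by
  have h0 := (mem_dotsKer.mp h) 0
  have h1 := (mem_dotsKer.mp h) 1
  exact ⟨by simpa [leftVec_dot hQ] using h0, by simpa [leftVec_dot hQ] using h1⟩

/-- A vector avoiding two proper conditions inside a third. -/
theorem exists_avoid_two (hQ : IsNondegenerateQuadraticForm Q) {z p r : ι → F}
    (hp : ∀ c : F, c • z ≠ p) (hr : ∀ c : F, c • z ≠ r) :
    ∃ x, B x z = 0 ∧ B x p ≠ 0 ∧ B x r ≠ 0 := by
  have hs := sesqForm_of_quadratic hQ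
  obtain ⟨x₁, h1z, h1p⟩ := hs.exists_orth_not_orth hp
  obtain ⟨x₂, h2z, h2r⟩ := hs.exists_orth_not_orth hr
  by_cases h1r : B x₁ r = 0
  · by_cases h2p : B x₂ p = 0
    · refine ⟨x₁ + x₂, by rw [hs.add_left, h1z, h2z, add_zero], ?_, ?_⟩
      · rw [hs.add_left, h1p, h2p, add_zero]; exact one_ne_zero
      · rw [hs.add_left, h1r, h2r, zero_add]; exact one_ne_zero
    · exact ⟨x₂, h2z, h2p, by rw [h2r]; exact one_ne_zero⟩
  · exact ⟨x₁, h1z, by rw [h1p]; exact one_ne_zero, h1r⟩

/-- A singular vector pairing to one with a given one. -/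
theorem exists_hyperbolic (hQ : IsNondegenerateQuadraticForm Q) {z : ι → F} (hz : Q z = 0)
    (hz0 : z ≠ 0) : ∃ z', Q z' = 0 ∧ B z' z = 1 := by
  have hs := sesqForm_of_quadratic hQ
  obtain ⟨y, hy⟩ := hs.exists_left_ne_zero hz0
  set y₀ := (B y z)⁻¹ • y with hy₀
  have hy₀z : B y₀ z = 1 := by rw [hy₀, hs.smul_left, inv_mul_cancel₀ hy]
  clear_value y₀
  refine ⟨y₀ + (-Q y₀) • z, ?_, ?_⟩
  · rw [quad_add (Q := Q), hQ.smul, hz, hs.smul_right, hy₀z]
    simp only [RingEquiv.refl_apply]
    ring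
  · rw [hs.add_left, hy₀z, hs.smul_left, polar_self hQ, hz, mul_zero, mul_zero, add_zero]

/-- A singular vector not orthogonal to a given non-zero one. -/
theorem exists_singular_not_orth₀ (hQ : IsNondegenerateQuadraticForm Q)
    (hodd : Odd (Fintype.card F)) (hn : 3 ≤ Fintype.card ι) {x : ι → F} (hx : x ≠ 0) :
    ∃ z, Q z = 0 ∧ B z x ≠ 0 := by
  have hs := sesqForm_of_quadratic hQ
  obtain ⟨z₀, -, hz00, hz0⟩ := exists_singular_mem hQ hodd ⊤
    (by rw [finrank_top, Module.finrank_pi]; exact hn)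
  by_cases h : B z₀ x = 0
  swap
  · exact ⟨z₀, hz0, h⟩
  obtain ⟨a, ha⟩ := hs.exists_left_ne_zero hz00
  obtain ⟨b, hb⟩ := hs.exists_left_ne_zero hx
  obtain ⟨w, hw1, hw2⟩ : ∃ w, B w z₀ ≠ 0 ∧ B w x ≠ 0 := by
    by_cases hax : B a x = 0
    · by_cases hbz : B b z₀ = 0
      · refine ⟨a + b, ?_, ?_⟩
        · rwa [hs.add_left, hbz, add_zero]
        · rwa [hs.add_left, hax, zero_add]
      · exact ⟨b, hbz, hb⟩
    · exact ⟨a, ha, hax⟩
  refine ⟨w + (-Q w / B w z₀) • z₀, ?_, ?_⟩
  · rw [quad_add (Q := Q), hQ.smul, hz0, hs.smul_right]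
    simp only [RingEquiv.refl_apply]
    field_simp
    ring
  · rwa [hs.add_left, hs.smul_left, h, mul_zero, add_zero]

/-- A singular vector orthogonal to a non-singular `u` and not to a non-singular `v ⊥ u`. -/
theorem exists_singular_not_orth₁ (hQ : IsNondegenerateQuadraticForm Q)
    (hodd : Odd (Fintype.card F)) (hn : 4 ≤ Fintype.card ι) {u v : ι → F} (hu : Q u ≠ 0)
    (hv : Q v ≠ 0) (hvu : B v u = 0) : ∃ z, B z u = 0 ∧ Q z = 0 ∧ B z v ≠ 0 := by
  have hs := sesqForm_of_quadratic hQ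
  have h2 := two_ne_zero_of_odd hodd
  have huv : B u v = 0 := by rwa [polar_symm]
  -- the orthogonal of the plane meets the plane trivially, so it is non-degenerate
  set K := dotsKer ![leftVec B u, leftVec B v] with hK
  have hKd : 2 ≤ Module.finrank F K := by
    have := finrank_dotsKer ![leftVec B u, leftVec B v]
    rw [← hK] at this
    omega
  have hrad : ∀ s ∈ K, (∀ t ∈ K, B t s = 0) → s = 0 := by
    intro s hsK hs0
    obtain ⟨hsu, hsv⟩ := mem_dotsKer_two hQ hsK
    by_contra hne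
    obtain ⟨y, hy⟩ := hs.exists_left_ne_zero hne
    refine hy ?_
    have hy' : y - (B y u / B u u) • u - (B y v / B v v) • v ∈ K := by
      rw [hK, mem_dotsKer]
      intro i
      fin_cases i <;> simp [leftVec_dot hQ, hs.sub_left, hs.smul_left, huv, hvu, polar_self hQ, hu, hv,
        h2]
    have := hs0 _ hy'
    rwa [hs.sub_left, hs.sub_left, hs.smul_left, hs.smul_left, polar_symm u s, polar_symm v s, hsu,
      hsv, mul_zero, mul_zero, sub_zero, sub_zero] at this
  obtain ⟨e₁, he1, hQ1⟩ : ∃ e ∈ K, Q e ≠ 0 := by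
    by_contra hcon
    push Not at hcon
    obtain ⟨s, hsK, hs0⟩ := Submodule.exists_mem_ne_zero_of_ne_bot (p := K) (fun h => by
      rw [h, finrank_bot] at hKd; omega)
    refine hs0 (hrad s hsK fun t ht => ?_)
    simp only [QuadraticMap.polar]
    rw [hcon _ ht, hcon _ hsK, hcon _ (K.add_mem ht hsK)]; ring
  obtain ⟨e₂, he2, he21, hQ2⟩ : ∃ e ∈ K, B e e₁ = 0 ∧ Q e ≠ 0 := by
    by_contra hcon
    push Not at hcon
    have hdec : ∀ t ∈ K, ∃ t' ∈ K, B t' e₁ = 0 ∧ t = t' + (B t e₁ / B e₁ e₁) • e₁ := fun t ht =>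
      ⟨t - (B t e₁ / B e₁ e₁) • e₁, K.sub_mem ht (K.smul_mem _ he1), by
        rw [hs.sub_left, hs.smul_left, div_mul_cancel₀ _ (by
          rw [polar_self hQ]; exact mul_ne_zero h2 hQ1), sub_self], by abel⟩
    obtain ⟨s, hsK, hs1, hs0⟩ : ∃ s ∈ K, B s e₁ = 0 ∧ s ≠ 0 := by
      by_contra h'
      push Not at h'
      have hle : K ≤ Submodule.span F {e₁} := fun t ht => by
        obtain ⟨t', ht', ht1, e⟩ := hdec t ht
        rw [h' t' ht' ht1, zero_add] at e
        rw [e]
        exact Submodule.smul_mem _ _ (Submodule.mem_span_singleton_self e₁)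
      have h3 := Submodule.finrank_mono hle
      rw [finrank_span_singleton (fun h => hQ1 (by rw [h, quad_zero hQ]))] at h3
      omega
    refine hs0 (hrad s hsK fun t ht => ?_)
    obtain ⟨t', ht', ht1, e⟩ := hdec t ht
    have hts : B t' s = 0 := by
      simp only [QuadraticMap.polar]
      rw [hcon _ ht' ht1, hcon _ hsK hs1,
        hcon _ (K.add_mem ht' hsK) (by rw [hs.add_left, ht1, hs1, add_zero])]
      ring
    rw [e, hs.add_left, hs.smul_left, hts, polar_symm e₁ s, hs1, mul_zero, add_zero]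
  obtain ⟨h1u, h1v⟩ := mem_dotsKer_two hQ he1
  obtain ⟨h2u, h2v⟩ := mem_dotsKer_two hQ he2
  have he12 : B e₁ e₂ = 0 := by rwa [polar_symm]
  obtain ⟨a, b, hab⟩ := exists_sq_add_sq hodd hQ1 hQ2 (-Q v)
  refine ⟨v + (a • e₁ + b • e₂), ?_, ?_, ?_⟩
  · simp only [hs.add_left, hs.smul_left, hvu, h1u, h2u]; ring
  · rw [quad_add (Q := Q), quad_add (Q := Q), hQ.smul, hQ.smul, hs.smul_left, hs.smul_right, he12,
      hs.add_right, hs.smul_right, hs.smul_right, polar_symm v e₁, polar_symm v e₂, h1v, h2v]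
    simp only [RingEquiv.refl_apply]
    linear_combination hab
  · simp only [hs.add_left, hs.smul_left, h1v, h2v, polar_self hQ, mul_zero, add_zero]
    exact mul_ne_zero h2 hv

/-- An element preserving the set of singular vectors is a similarity. -/
theorem quadSimilar_of_singular (hQ : IsNondegenerateQuadraticForm Q)
    (hodd : Odd (Fintype.card F)) (hn : 4 ≤ Fintype.card ι) (g : GL ι F)
    (hg : ∀ z, Q z = 0 → Q ((g : Matrix ι ι F) *ᵥ z) = 0) : g ∈ quadSimilarityGroup Q := by
  have hs := sesqForm_of_quadratic hQ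
  have h2 := two_ne_zero_of_odd hodd
  set G : (ι → F) → (ι → F) → F :=
    fun x y => B ((g : Matrix ι ι F) *ᵥ x) ((g : Matrix ι ι F) *ᵥ y) with hG
  set R : (ι → F) → F := fun x => Q ((g : Matrix ι ι F) *ᵥ x) with hR
  have hRadd : ∀ x y, R (x + y) = R x + R y + G x y := fun x y => by
    simp only [hR, hG, mulVec_add, quad_add (Q := Q)]
  have hRsmul : ∀ (c : F) x, R (c • x) = c ^ 2 * R x := fun c x => by
    simp only [hR, mulVec_smul, hQ.smul]
  have hGal : ∀ x y z, G (x + y) z = G x z + G y z := fun x y z => by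
    simp only [hG, mulVec_add, hs.add_left]
  have hGsl : ∀ (c : F) x z, G (c • x) z = c * G x z := fun c x z => by
    simp only [hG, mulVec_smul, hs.smul_left]
  have hGsr : ∀ (c : F) x z, G x (c • z) = c * G x z := fun c x z => by
    simp only [hG, mulVec_smul, hs.smul_right, RingEquiv.refl_apply]
  have hGsub : ∀ x y z, G (x - y) z = G x z - G y z := fun x y z => by
    simp only [hG, mulVec_sub, hs.sub_left]
  -- `R w β = Q w G(w, z)` for every `w` not orthogonal to the singular `z`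
  have hbasic : ∀ z, Q z = 0 → ∀ w, B w z ≠ 0 → R w * B w z = Q w * G w z := by
    intro z hz w hw
    have h0 : Q (w + (-Q w / B w z) • z) = 0 := by
      rw [quad_add (Q := Q), hQ.smul, hz, hs.smul_right]
      simp only [RingEquiv.refl_apply]
      field_simp
      ring
    have h1 : R (w + (-Q w / B w z) • z) = 0 := hg _ h0
    rw [hRadd, hRsmul, show R z = 0 from hg z hz, hGsr] at h1
    field_simp at h1
    refine mul_left_cancel₀ hw ?_
    linear_combination h1
  have key : ∀ z, Q z = 0 → z ≠ 0 → ∀ x, B x z = 0 → G x z = 0 := by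
    intro z hz hz0
    obtain ⟨z', hz', hz'z⟩ := exists_hyperbolic hQ hz hz0
    have hzz : B z z = 0 := by rw [polar_self hQ, hz, mul_zero]
    -- an identity of degree two in `x ∈ z⊥`
    have hid : ∀ w, B w z = 1 → ∀ x, B x z = 0 →
        R x = Q x * G w z + B w x * G x z := by
      intro w hw x hx
      have hp := hbasic z hz (w + x) (by rw [hs.add_left, hw, hx, add_zero]; exact one_ne_zero)
      have hm := hbasic z hz (w + (-1 : F) • x)
        (by rw [hs.add_left, hs.smul_left, hw, hx, mul_zero, add_zero]; exact one_ne_zero)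
      have hw' := hbasic z hz w (by rw [hw]; exact one_ne_zero)
      rw [hRadd, hs.add_left, hw, hx, quad_add (Q := Q), hGal] at hp
      rw [hRadd, hs.add_left, hs.smul_left, hw, hx, quad_add (Q := Q), hGal, hRsmul, hQ.smul, hGsr,
        hGsl, hs.smul_right] at hm
      simp only [RingEquiv.refl_apply] at hm
      rw [hw] at hw'
      refine mul_left_cancel₀ h2 ?_
      linear_combination hp + hm - 2 * hw'
    -- moving `w` inside `w + z⊥`
    have hmove : ∀ x, B x z = 0 → ∀ y, B y z = 0 → Q x * G y z + B y x * G x z = 0 := by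
      intro x hx y hy
      have e1 := hid z' hz'z x hx
      have e2 := hid (z' + y) (by rw [hs.add_left, hz'z, hy, add_zero]) x hx
      rw [hGal, hs.add_left] at e2
      linear_combination e1 - e2
    have hperp : ∀ x, B x z = 0 → Q x ≠ 0 → ∀ y, B y z = 0 → B y x = 0 → G y z = 0 := by
      intro x hx hQx y hy hyx
      have := hmove x hx y hy
      rw [hyx, zero_mul, add_zero] at this
      exact (mul_eq_zero.mp this).resolve_left hQx
    obtain ⟨x₀, hx₀, hQx₀⟩ := exists_nonsingular hQ (dotsKer ![leftVec B z]) (by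
      have := finrank_dotsKer ![leftVec B z]; omega)
    have hx₀z := mem_dotsKer_one hQ hx₀
    -- a second non-singular vector of `z⊥`, orthogonal to the first
    obtain ⟨x₁, hx₁z, hx₁0, hQx₁⟩ : ∃ x, B x z = 0 ∧ B x x₀ = 0 ∧ Q x ≠ 0 := by
      obtain ⟨K, hKdef⟩ : ∃ K, K = dotsKer ![leftVec B z, leftVec B x₀] := ⟨_, rfl⟩
      by_contra hcon
      push Not at hcon
      have htot : ∀ s ∈ K, ∀ t ∈ K, B s t = 0 := by
        intro s hs' t ht
        rw [hKdef] at hs' ht
        obtain ⟨hsz, hs0⟩ := mem_dotsKer_two hQ hs'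
        obtain ⟨htz, ht0⟩ := mem_dotsKer_two hQ ht
        simp only [QuadraticMap.polar]
        rw [hcon _ hsz hs0, hcon _ htz ht0, hcon _ (by rw [hs.add_left, hsz, htz, add_zero])
          (by rw [hs.add_left, hs0, ht0, add_zero])]
        ring
      -- `z` and all of `K` would be orthogonal to `z⊥`
      obtain ⟨s, hsK, hsz⟩ : ∃ s ∈ K, s ∉ Submodule.span F {z} := by
        by_contra h'
        push Not at h'
        have h3 := Submodule.finrank_mono (h' : K ≤ Submodule.span F {z})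
        have h4 := finrank_dotsKer ![leftVec B z, leftVec B x₀]
        rw [← hKdef] at h4
        rw [finrank_span_singleton hz0] at h3
        omega
      obtain ⟨t, htz, hts⟩ := hs.exists_orth_not_orth (u := z) (v := s)
        fun c hc => hsz (Submodule.mem_span_singleton.mpr ⟨c, hc⟩)
      have hB00 : B x₀ x₀ ≠ 0 := by rw [polar_self hQ]; exact mul_ne_zero h2 hQx₀
      have ht' : t - (B t x₀ / B x₀ x₀) • x₀ ∈ K := by
        rw [hKdef, mem_dotsKer]
        intro i
        fin_cases i <;> simp [leftVec_dot hQ, hs.sub_left, hs.smul_left, htz, hx₀z, hB00]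
      have h0 := htot _ ht' _ hsK
      rw [hKdef] at hsK
      rw [hs.sub_left, hs.smul_left, polar_symm x₀ s, (mem_dotsKer_two hQ hsK).2, mul_zero, sub_zero,
        hts] at h0
      exact one_ne_zero h0
    have hG0 : G x₀ z = 0 := hperp x₁ hx₁z hQx₁ x₀ hx₀z (by rwa [polar_symm])
    intro x hx
    have h00 : B x₀ x₀ ≠ 0 := by rw [polar_self hQ]; exact mul_ne_zero h2 hQx₀
    have h := hperp x₀ hx₀z hQx₀ (x - (B x x₀ / B x₀ x₀) • x₀)
      (by rw [hs.sub_left, hs.smul_left, hx, hx₀z, mul_zero, sub_zero])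
      (by rw [hs.sub_left, hs.smul_left, div_mul_cancel₀ _ h00, sub_self])
    rw [hGsub, hGsl, hG0, mul_zero, sub_zero] at h
    exact h
  -- the multiplier
  obtain ⟨z₀, -, hz00, hz0⟩ := exists_singular_mem hQ hodd ⊤
    (by rw [finrank_top, Module.finrank_pi]; omega)
  obtain ⟨x₀, hx₀⟩ := hs.exists_left_ne_zero hz00
  have hprop : ∀ u, Q u = 0 → ∀ x₁, B x₁ u ≠ 0 → ∀ x, G x u = G x₁ u / B x₁ u * B x u := by
    intro u hu x₁ hx₁ x
    have hu0 : u ≠ 0 := fun h => hx₁ (h ▸ hs.zero_right x₁)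
    have h0 : B (x - (B x u / B x₁ u) • x₁) u = 0 := by
      rw [hs.sub_left, hs.smul_left, div_mul_cancel₀ _ hx₁, sub_self]
    have := key u hu hu0 _ h0
    rw [hGsub, hGsl, sub_eq_zero] at this
    rw [this]; ring
  set μ := G x₀ z₀ / B x₀ z₀ with hμ
  have hμ0 : ∀ x, G x z₀ = μ * B x z₀ := hprop z₀ hz0 x₀ hx₀
  have htop : hs.similarOn (g : Matrix ι ι F) μ = ⊤ := by
    set S := hs.similarOn (g : Matrix ι ι F) μ with hS
    have h0S : z₀ ∈ S := fun x => hμ0 x
    have hsing : ∀ z, Q z = 0 → B z z₀ ≠ 0 → z ∈ S := by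
      intro z hz hne x
      have hne' : B z₀ z ≠ 0 := by rwa [polar_symm]
      have h1 := hprop z hz z₀ hne' x
      have h3 : G z₀ z = μ * B z₀ z := by
        have := hμ0 z
        simp only [hG] at this ⊢
        rw [polar_symm (Q := Q), this, polar_symm (Q := Q) z z₀]
      rw [h3, mul_div_cancel_right₀ _ hne'] at h1
      exact h1
    have hmem : ∀ w, B w z₀ ≠ 0 → w ∈ S := by
      intro w hw
      set t := - Q w / B w z₀
      have h1 : Q (w + t • z₀) = 0 := by
        rw [quad_add (Q := Q), hQ.smul, hz0, hs.smul_right]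
        simp only [RingEquiv.refl_apply, t]
        field_simp
        ring
      have h3 : B (w + t • z₀) z₀ ≠ 0 := by
        rwa [hs.add_left, hs.smul_left, polar_self hQ, hz0, mul_zero, mul_zero, add_zero]
      simpa using S.sub_mem (hsing _ h1 h3) (S.smul_mem t h0S)
    refine Submodule.eq_top_iff'.mpr fun w => ?_
    by_cases hw : B w z₀ = 0
    · have h1 := hmem (w + x₀) (by rwa [hs.add_left, hw, zero_add])
      simpa using S.sub_mem h1 (hmem x₀ hx₀)
    · exact hmem w hw
  obtain ⟨c, hc⟩ := hs.mem_similarityGroup_of_similarOn g μ htop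
  refine ⟨c, fun v => mul_left_cancel₀ h2 ?_⟩
  rw [← polar_self hQ, hc, polar_self hQ]; ring

theorem sieg_mul (hQ : IsNondegenerateQuadraticForm Q) {u a b : ι → F} (hu : Q u = 0)
    (ha : B a u = 0) (hb : B b u = 0) : sieg Q u a * sieg Q u b = sieg Q u (a + b) := by
  have hs := sesqForm_of_quadratic hQ
  refine gl_ext fun x => ?_
  have huu : B u u = 0 := by rw [polar_self hQ, hu, mul_zero]
  rw [Units.val_mul, ← mulVec_mulVec, sieg_mulVec hQ hu hb, sieg_mulVec hQ hu ha,
    sieg_mulVec hQ hu (show B (a + b) u = 0 by rw [hs.add_left, ha, hb, add_zero])]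
  simp only [hs.sub_left, hs.add_left, hs.smul_left, hb, huu, polar_symm u a, ha, hs.add_right,
    quad_add (Q := Q), mul_zero, add_zero, sub_zero, polar_symm b a]
  module

theorem sieg_injective (hQ : IsNondegenerateQuadraticForm Q) {u v a b : ι → F} (hu : Q u = 0)
    (hvu : B v u = 1) (ha : B a u = 0) (hb : B b u = 0) (hav : B a v = 0) (hbv : B b v = 0)
    (h : (sieg Q u a : Matrix ι ι F) *ᵥ v = (sieg Q u b : Matrix ι ι F) *ᵥ v) : a = b := by
  have hs := sesqForm_of_quadratic hQ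
  rw [sieg_mulVec hQ hu ha, sieg_mulVec hQ hu hb, hvu, polar_symm v a, polar_symm v b, hav, hbv] at h
  simp only [one_smul, mul_one, zero_add] at h
  have e : a - b = (Q a - Q b) • u := by
    linear_combination (norm := module) h
  have h0 := congrArg (fun y => B y v) e
  simp only [hs.sub_left, hs.smul_left, hav, hbv, sub_self, polar_symm u v, hvu, mul_one] at h0
  rw [← h0, zero_smul, sub_eq_zero] at e
  exact e

/-- An overgroup of the similarities has an element fixing a singular vector which is none. -/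
theorem exists_fixing (hQ : IsNondegenerateQuadraticForm Q) (hodd : Odd (Fintype.card F))
    (hn : 4 ≤ Fintype.card ι) {M : Subgroup (GL ι F)}
    (hM : quadSimilarityGroup Q ⊓ specialLinear ι F ≤ M)
    {g : GL ι F} (hg : g ∈ M) (hg' : g ∉ quadSimilarityGroup Q) :
    ∃ z, Q z = 0 ∧ z ≠ 0 ∧ ∃ ρ ∈ M, (ρ : Matrix ι ι F) *ᵥ z = z ∧ ρ ∉ quadSimilarityGroup Q := by
  classical
  by_contra hcon
  push Not at hcon
  have hs := sesqForm_of_quadratic hQ
  refine hg' (quadSimilar_of_singular hQ hodd hn g fun z hz => ?_)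
  rcases eq_or_ne z 0 with rfl | hz0
  · rw [mulVec_zero, quad_zero hQ]
  obtain ⟨z', hz', hz'z⟩ := exists_hyperbolic hQ hz hz0
  have hzz' : B z z' = 1 := by rwa [polar_symm]
  have hzz : B z z = 0 := by rw [polar_self hQ, hz, mul_zero]
  have hgi : g⁻¹ ∉ quadSimilarityGroup Q := fun h => hg' (by simpa using inv_mem h)
  set W := dotsKer ![leftVec B z, leftVec B z'] with hW
  have hWd : Fintype.card F ^ (Fintype.card ι - 2) ≤ Fintype.card W := by
    rw [Module.card_eq_pow_finrank (K := F) (V := W)]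
    refine Nat.pow_le_pow_right Fintype.card_pos ?_
    have := finrank_dotsKer ![leftVec B z, leftVec B z']
    rw [hW]
    omega
  -- some Siegel element at `z` is conjugated by `g` into a similarity
  obtain ⟨w, hwW, hw0, hconj⟩ : ∃ w ∈ W, w ≠ 0 ∧ g * sieg Q z w * g⁻¹ ∈ quadSimilarityGroup Q := by
    by_contra h
    push Not at h
    let r : Option W → GL ι F := fun i => i.elim 1 fun w => sieg Q z (w : ι → F) * g⁻¹
    have hrM : ∀ i, r i ∈ M := by
      rintro (_ | w)
      · exact M.one_mem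
      · exact M.mul_mem (hM (sieg_mem hQ hz (mem_dotsKer_two hQ w.2).1)) (M.inv_mem hg)
    let φ : Option W × W → (ι → F) := fun p =>
      (r p.1 : Matrix ι ι F) *ᵥ ((sieg Q z' (p.2 : ι → F) : Matrix ι ι F) *ᵥ z)
    have hφ : Function.Injective φ := by
      rintro ⟨i, v⟩ ⟨i', v'⟩ he
      simp only [φ] at he
      have hv := mem_dotsKer_two hQ v.2
      have hv' := mem_dotsKer_two hQ v'.2
      obtain ⟨h₁, hh₁⟩ : ∃ h, h = sieg Q z' (v : ι → F) := ⟨_, rfl⟩
      obtain ⟨h₂, hh₂⟩ : ∃ h, h = sieg Q z' (v' : ι → F) := ⟨_, rfl⟩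
      rw [← hh₁, ← hh₂] at he
      have hs1 : h₁ ∈ quadSimilarityGroup Q ⊓ specialLinear ι F := hh₁ ▸ sieg_mem hQ hz' hv.2
      have hs2 : h₂ ∈ quadSimilarityGroup Q ⊓ specialLinear ι F := hh₂ ▸ sieg_mem hQ hz' hv'.2
      have hS1 : h₁ ∈ quadSimilarityGroup Q := (Subgroup.mem_inf.mp hs1).1
      have hS2 : h₂ ∈ quadSimilarityGroup Q := (Subgroup.mem_inf.mp hs2).1
      have hfix : (((r i' * h₂)⁻¹ * (r i * h₁) : GL ι F) : Matrix ι ι F) *ᵥ z = z := by
        rw [Units.val_mul, ← mulVec_mulVec, Units.val_mul (r i), ← mulVec_mulVec, he, mulVec_mulVec,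
          mulVec_mulVec, ← Units.val_mul, ← Units.val_mul]
        simp
      have hSim := hcon z hz hz0 _ (M.mul_mem (M.inv_mem (M.mul_mem (hrM i') (hM hs2)))
        (M.mul_mem (hrM i) (hM hs1))) hfix
      have hrr : (r i')⁻¹ * r i ∈ quadSimilarityGroup Q := by
        have := mul_mem (mul_mem hS2 hSim) (inv_mem hS1)
        simpa [mul_assoc] using this
      have hii : i = i' := by
        rcases i with _ | w <;> rcases i' with _ | w'
        · rfl
        · simp only [r, Option.elim_none, Option.elim_some, mul_one, _root_.mul_inv_rev,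
            inv_inv] at hrr
          refine absurd ?_ hg'
          have := mul_mem hrr (Subgroup.mem_inf.mp (sieg_mem hQ hz (mem_dotsKer_two hQ w'.2).1)).1
          simpa [mul_assoc] using this
        · simp only [r, Option.elim_none, Option.elim_some, inv_one, one_mul] at hrr
          refine absurd ?_ hgi
          have := mul_mem (inv_mem (Subgroup.mem_inf.mp (sieg_mem hQ hz (mem_dotsKer_two hQ w.2).1)).1) hrr
          simpa [mul_assoc] using this
        · simp only [r, Option.elim_some, _root_.mul_inv_rev, inv_inv] at hrr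
          rw [Option.some.injEq]
          by_contra hne
          refine h ((w : ι → F) - w') (W.sub_mem w.2 w'.2) (sub_ne_zero.mpr fun e => hne (Subtype.ext e)) ?_
          have e : sieg Q z ((w : ι → F) - w') = (sieg Q z (w' : ι → F))⁻¹ * sieg Q z (w : ι → F) := by
            rw [eq_inv_mul_iff_mul_eq, sieg_mul hQ hz (mem_dotsKer_two hQ w'.2).1
              (mem_dotsKer_two hQ (W.sub_mem w.2 w'.2)).1, add_sub_cancel]
          rw [e]
          simpa [mul_assoc] using hrr
      subst hii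
      have he' := Matrix.mulVec_injective_of_isUnit (r i).isUnit he
      have : (v : ι → F) = v' := by
        rw [hh₁, hh₂] at he'
        exact sieg_injective hQ hz' hzz' hv.2 hv'.2 hv.1 hv'.1 he'
      rw [Subtype.ext this]
    have hc := Fintype.card_le_of_injective φ hφ
    rw [Fintype.card_prod, Fintype.card_option, Fintype.card_fun] at hc
    have h1 : Fintype.card F ^ Fintype.card ι ≤
        Fintype.card F ^ (Fintype.card ι - 2) * Fintype.card F ^ (Fintype.card ι - 2) := by
      rw [← pow_add]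
      exact Nat.pow_le_pow_right Fintype.card_pos (by omega)
    have h3 := Nat.mul_le_mul (Nat.succ_le_succ hWd) hWd
    have h4 : 0 < Fintype.card F ^ (Fintype.card ι - 2) := Nat.pow_pos Fintype.card_pos
    simp only [Nat.succ_eq_add_one] at h3
    nlinarith
  -- a vector moved by `-z`
  obtain ⟨hwz, hwz'⟩ := mem_dotsKer_two hQ hwW
  obtain ⟨a, haz, haw⟩ := hs.exists_orth_not_orth (u := z) (v := w) fun c hc => hw0 (by
    have := congrArg (fun y => B y z') hc
    simp only [hs.smul_left, hzz', hwz', mul_one] at this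
    rw [← hc, this, zero_smul])
  obtain ⟨x, hxdef⟩ : ∃ x, x = g * sieg Q z w * g⁻¹ := ⟨_, rfl⟩
  rw [← hxdef] at hconj
  obtain ⟨c, hc⟩ := hconj
  have hxmul : ∀ y, (x : Matrix ι ι F) *ᵥ ((g : Matrix ι ι F) *ᵥ y) =
      (g : Matrix ι ι F) *ᵥ ((sieg Q z w : Matrix ι ι F) *ᵥ y) := by
    intro y
    rw [hxdef, mulVec_mulVec, mulVec_mulVec, Units.val_mul, Units.val_mul, mul_assoc, Units.inv_mul,
      mul_one]
  have hxz : (x : Matrix ι ι F) *ᵥ ((g : Matrix ι ι F) *ᵥ z) = (g : Matrix ι ι F) *ᵥ z := by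
    rw [hxmul, sieg_mulVec hQ hz hwz, hzz, polar_symm z w, hwz]
    simp
  by_contra hne
  have hc1 : (c : F) = 1 := by
    have := hc ((g : Matrix ι ι F) *ᵥ z)
    rw [hxz] at this
    exact (mul_eq_right₀ hne).mp this.symm
  have hiso : ∀ v, Q ((x : Matrix ι ι F) *ᵥ v) = Q v := fun v => by rw [hc, hc1, one_mul]
  have hxa : (x : Matrix ι ι F) *ᵥ ((g : Matrix ι ι F) *ᵥ a) =
      (g : Matrix ι ι F) *ᵥ a - (g : Matrix ι ι F) *ᵥ z := by
    rw [hxmul, sieg_mulVec hQ hz hwz, haz, haw, ← mulVec_sub]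
    simp
  have := polar_of_isometry hiso ((g : Matrix ι ι F) *ᵥ a) ((g : Matrix ι ι F) *ᵥ z)
  rw [hxa, hxz, hs.sub_left, polar_self hQ] at this
  refine hne ((mul_eq_zero.mp ?_).resolve_left (two_ne_zero_of_odd hodd))
  linear_combination -this

/-- The reflection matrix. -/
noncomputable def refl (Q : (ι → F) → F) (v : ι → F) : Matrix ι ι F :=
  1 + vecMulVec (-(Q v)⁻¹ • v) (leftVec (QuadraticMap.polar Q) v)

theorem refl_mulVec (hQ : IsNondegenerateQuadraticForm Q) (v x : ι → F) :
    refl Q v *ᵥ x = x + (-(B x v / Q v)) • v := by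
  rw [refl, add_mulVec, one_mulVec, vecMulVec_mulVec', leftVec_dot hQ, smul_smul]
  congr 1
  rw [div_eq_mul_inv]
  ring_nf

theorem refl_quad (hQ : IsNondegenerateQuadraticForm Q) {v : ι → F} (hv : Q v ≠ 0) (x : ι → F) :
    Q (refl Q v *ᵥ x) = Q x := by
  have hs := sesqForm_of_quadratic hQ
  rw [refl_mulVec hQ, quad_add (Q := Q), hQ.smul, hs.smul_right]
  simp only [RingEquiv.refl_apply]
  field_simp
  ring

theorem det_refl (hQ : IsNondegenerateQuadraticForm Q) {v : ι → F} (hv : Q v ≠ 0) :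
    (refl Q v).det = -1 := by
  have e : refl Q v = 1 + replicateCol Unit (-(Q v)⁻¹ • v) * replicateRow Unit (leftVec B v) := by
    rw [refl]
    congr 1
    ext i j
    simp [vecMulVec, mul_apply]
  rw [e, det_one_add_replicateCol_mul_replicateRow, dotProduct_smul, leftVec_dot hQ, polar_self hQ,
    smul_eq_mul]
  field_simp
  ring

/-- An isometry of determinant one scaling a singular vector. -/
theorem exists_torus (hQ : IsNondegenerateQuadraticForm Q) (hodd : Odd (Fintype.card F))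
    {z : ι → F} (hz : Q z = 0) (hz0 : z ≠ 0) {α : F} (hα : α ≠ 0) :
    ∃ h ∈ quadSimilarityGroup Q ⊓ specialLinear ι F, (h : Matrix ι ι F) *ᵥ z = α • z ∧
      ∀ x, Q ((h : Matrix ι ι F) *ᵥ x) = Q x := by
  have hs := sesqForm_of_quadratic hQ
  obtain ⟨z', hz', hz'z⟩ := exists_hyperbolic hQ hz hz0
  have hzz' : B z z' = 1 := by rwa [polar_symm]
  have hzz : B z z = 0 := by rw [polar_self hQ, hz, mul_zero]
  have hz'z' : B z' z' = 0 := by rw [polar_self hQ, hz', mul_zero]
  have hQv : ∀ b : F, Q (z + b • z') = b := fun b => by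
    rw [quad_add (Q := Q), hQ.smul, hz, hz', hs.smul_right, hzz']
    simp
  have hr : ∀ b : F, b ≠ 0 → refl Q (z + b • z') *ᵥ z = (-b) • z' ∧
      refl Q (z + b • z') *ᵥ z' = (-b⁻¹) • z := by
    intro b hb
    refine ⟨?_, ?_⟩ <;>
    · rw [refl_mulVec hQ, hQv, hs.add_right, hs.smul_right]
      simp only [hzz, hzz', hz'z, hz'z', RingEquiv.refl_apply, mul_one, mul_zero, zero_add, add_zero]
      match_scalars <;> field_simp <;> ring
  have h1 : (1 : F) ≠ 0 := one_ne_zero
  set R := refl Q (z + (1 : F) • z') * refl Q (z + α • z') with hR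
  have hdet : R.det = 1 := by
    rw [hR, det_mul, det_refl hQ (by rw [hQv]; exact h1), det_refl hQ (by rw [hQv]; exact hα)]
    ring
  let h : GL ι F := Matrix.GeneralLinearGroup.mkOfDetNeZero R (by rw [hdet]; exact h1)
  have hcoe : (h : Matrix ι ι F) = R := rfl
  have hiso : ∀ x, Q ((h : Matrix ι ι F) *ᵥ x) = Q x := fun x => by
    rw [hcoe, hR, ← mulVec_mulVec, refl_quad hQ (by rw [hQv]; exact h1),
      refl_quad hQ (by rw [hQv]; exact hα)]
  refine ⟨h, ⟨⟨1, fun x => by rw [hiso, Units.val_one, one_mul]⟩, ?_⟩, ?_, hiso⟩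
  · show h ∈ specialLinear ι F
    rw [specialLinear, MonoidHom.mem_ker]
    apply Units.ext
    rw [Matrix.GeneralLinearGroup.val_det_apply, Units.val_one, hcoe, hdet]
  · rw [hcoe, hR, ← mulVec_mulVec, (hr α hα).1, mulVec_smul, (hr 1 h1).2]
    match_scalars
    ring

/-- One transvection with singular centre and a suitable axis gives a root group. -/
theorem rootIn_of_tv (hQ : IsNondegenerateQuadraticForm Q) (hodd : Odd (Fintype.card F))
    {M : Subgroup (GL ι F)} (hM : quadSimilarityGroup Q ⊓ specialLinear ι F ≤ M) {z a : ι → F}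
    (hz : Q z = 0) (hz0 : z ≠ 0) (ha : a ⬝ᵥ z = 0) (ha0 : a ≠ 0) (hT : tv z a ∈ M) :
    RootIn M z (leftVec B z) := by
  have hs := sesqForm_of_quadratic hQ
  have hzz : B z z = 0 := by rw [polar_self hQ, hz, mul_zero]
  have hzd : leftVec B z ⬝ᵥ z = 0 := by rw [leftVec_dot hQ, hzz]
  refine ⟨hzd, fun k => ?_⟩
  by_cases hv : ∃ v, B v z = 0 ∧ a ⬝ᵥ v ≠ 0
  · obtain ⟨v, hvz, hav⟩ := hv
    set w := (k / (a ⬝ᵥ v)) • v with hw
    have hwz : B w z = 0 := by rw [hw, hs.smul_left, hvz, mul_zero]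
    have hwz' : B (-w) z = 0 := by rw [hs.neg_left, hwz, neg_zero]
    have haw : a ⬝ᵥ w = k := by rw [hw, dotProduct_smul, smul_eq_mul, div_mul_cancel₀ _ hav]
    have hsi : (sieg Q z w)⁻¹ = sieg Q z (-w) := by
      refine inv_eq_of_mul_eq_one_right ?_
      rw [sieg_mul hQ hz hwz hwz', add_neg_cancel]
      exact gl_ext fun x => by
        rw [sieg_mulVec hQ hz (hs.zero_left z), hs.zero_right, quad_zero hQ, Units.val_one,
          one_mulVec]
        simp
    obtain ⟨a', ha'⟩ : ∃ a', a' = a ᵥ* (((sieg Q z w)⁻¹ : GL ι F) : Matrix ι ι F) := ⟨_, rfl⟩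
    have hmv : ∀ x, a' ⬝ᵥ x = a ⬝ᵥ x - B x z * k := by
      intro x
      rw [ha', ← dotProduct_mulVec, hsi, sieg_mulVec hQ hz hwz', dotProduct_sub, dotProduct_add,
        dotProduct_smul, dotProduct_smul, dotProduct_neg, ha, haw]
      simp [sub_eq_add_neg]
    have hconj := tv_mem_conj (hM (sieg_mem hQ hz hwz)) hT
    rw [← ha', sieg_mulVec hQ hz hwz, hzz, polar_symm z w, hwz] at hconj
    simp only [zero_smul, mul_zero, add_zero, sub_zero] at hconj
    have hdiff : k • leftVec B z = a - a' := by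
      refine dotProduct_eq _ _ fun x => ?_
      rw [smul_dotProduct, leftVec_dot hQ, sub_dotProduct, hmv, smul_eq_mul]
      ring
    have h := tv_mem_add_right ha (by rw [neg_dotProduct, hmv, ha, hzz, zero_mul, sub_zero, neg_zero])
      hT (show tv z (-a') ∈ M by
        have := M.inv_mem hconj
        rwa [tv_inv, ← tv_neg_right] at this)
    rw [← sub_eq_add_neg, ← hdiff, tv_smul_right] at h
    exact h
  push Not at hv
  obtain ⟨y, hy⟩ := hs.exists_left_ne_zero hz0
  set e := a ⬝ᵥ y / B y z with he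
  have hae : a = e • leftVec B z := by
    refine dotProduct_eq _ _ fun x => ?_
    have := hv (x - (B x z / B y z) • y)
      (by rw [hs.sub_left, hs.smul_left, div_mul_cancel₀ _ hy, sub_self])
    rw [dotProduct_sub, dotProduct_smul, sub_eq_zero] at this
    rw [this, he, smul_dotProduct, leftVec_dot hQ, smul_eq_mul, smul_eq_mul]
    ring
  have he0 : e ≠ 0 := fun h => ha0 (by rw [hae, h, zero_smul])
  have hsq : ∀ α : F, tv ((e * α ^ 2) • z) (leftVec B z) ∈ M := by
    intro α
    rcases eq_or_ne α 0 with rfl | hα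
    · rw [zero_pow two_ne_zero, mul_zero, zero_smul, tv_zero_left]; exact M.one_mem
    obtain ⟨h, hh, hhz, hiso⟩ := exists_torus hQ hodd hz hz0 hα
    have := tv_mem_conj (hM hh) (show tv (e • z) (leftVec B z) ∈ M by
      rw [← tv_smul_right, ← hae]; exact hT)
    rw [leftVec_conj_isometry hQ hiso, mulVec_smul, hhz, hs.leftVec_smul, RingEquiv.refl_apply,
      tv_smul_right, smul_smul, smul_smul] at this
    convert this using 3
    ring
  obtain ⟨x, y', hxy⟩ := exists_sq_add_sq hodd he0 he0 k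
  have h := tv_mem_add_left (by rw [dotProduct_smul, hzd, smul_zero])
    (by rw [dotProduct_smul, hzd, smul_zero]) (hsq x) (hsq y')
  rwa [← add_smul, hxy] at h

/-- An element fixing a singular vector which is no similarity gives a root group. -/
theorem rootIn_of_fixing (hQ : IsNondegenerateQuadraticForm Q) (hodd : Odd (Fintype.card F))
    (hn : 4 ≤ Fintype.card ι) {M : Subgroup (GL ι F)}
    (hM : quadSimilarityGroup Q ⊓ specialLinear ι F ≤ M) (hMS : M ≤ specialLinear ι F)
    {z : ι → F} (hz : Q z = 0) (hz0 : z ≠ 0) {ρ : GL ι F} (hρ : ρ ∈ M)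
    (hρz : (ρ : Matrix ι ι F) *ᵥ z = z) (hρS : ρ ∉ quadSimilarityGroup Q) :
    RootIn M z (leftVec B z) := by
  have hs := sesqForm_of_quadratic hQ
  have h2 := two_ne_zero_of_odd hodd
  have hzz : B z z = 0 := by rw [polar_self hQ, hz, mul_zero]
  have hzd : leftVec B z ⬝ᵥ z = 0 := by rw [leftVec_dot hQ, hzz]
  set R := ((ρ⁻¹ : GL ι F) : Matrix ι ι F) with hR
  have hRz : R *ᵥ z = z := by
    conv_lhs => rw [← hρz]
    exact mulVec_inv_cancel ρ z
  -- two words in `M` differing by a transvection with centre `z`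
  have hword : ∀ (X Y : GL ι F) (a : ι → F), X ∈ M → Y ∈ M → a ⬝ᵥ z = 0 → X = tv z a * Y →
      tv z a ∈ M := by
    intro X Y a hX hY _ e
    have : tv z a = X * Y⁻¹ := by rw [e, mul_inv_cancel_right]
    rw [this]
    exact M.mul_mem hX (M.inv_mem hY)
  obtain ⟨p, hp⟩ := hs.leftVec_surjective (leftVec B z ᵥ* R)
  have hf : ∀ y, B (R *ᵥ y) z = B y p := fun y => by
    rw [← leftVec_dot hQ p y, hp, ← dotProduct_mulVec, leftVec_dot hQ]
  by_cases hpz : ∃ μ : F, μ • z = p
  · obtain ⟨μ, rfl⟩ := hpz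
    have hf' : ∀ y, B (R *ᵥ y) z = μ * B y z := fun y => by
      rw [hf, hs.smul_right, RingEquiv.refl_apply]
    obtain ⟨y₁, hy₁⟩ := hs.exists_left_ne_zero hz0
    have hμ : μ ≠ 0 := by
      intro h
      have := hf' ((ρ : Matrix ι ι F) *ᵥ y₁)
      rw [hR, mulVec_inv_cancel, h, zero_mul] at this
      exact hy₁ this
    have hfρ : ∀ y, B ((ρ : Matrix ι ι F) *ᵥ y) z = μ⁻¹ * B y z := fun y => by
      have := hf' ((ρ : Matrix ι ι F) *ᵥ y)
      rw [hR, mulVec_inv_cancel] at this
      rw [this, inv_mul_cancel_left₀ hμ]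
    by_cases hall : ∀ w, B w z = 0 → ∀ y,
        B y ((ρ : Matrix ι ι F) *ᵥ w) = μ⁻¹ * B (R *ᵥ y) w
    · -- `ρ` is a similarity times a transvection
      obtain ⟨y₀, hy₀⟩ : ∃ y, B y z = 1 :=
        ⟨(B y₁ z)⁻¹ • y₁, by rw [hs.smul_left, inv_mul_cancel₀ hy₁]⟩
      set D := Q ((ρ : Matrix ι ι F) *ᵥ y₀) - μ⁻¹ * Q y₀ with hD
      have hBρ : ∀ w, B w z = 0 → ∀ x,
          B ((ρ : Matrix ι ι F) *ᵥ x) ((ρ : Matrix ι ι F) *ᵥ w) = μ⁻¹ * B x w := fun w hw x => by
        rw [hall w hw, hR, mulVec_inv_cancel]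
      have hQρ : ∀ w, B w z = 0 → Q ((ρ : Matrix ι ι F) *ᵥ w) = μ⁻¹ * Q w := fun w hw => by
        refine mul_left_cancel₀ h2 ?_
        rw [← polar_self hQ, hBρ w hw w, polar_self hQ]; ring
      have hQall : ∀ y, Q ((ρ : Matrix ι ι F) *ᵥ y) = μ⁻¹ * Q y + D * B y z ^ 2 := by
        intro y
        obtain ⟨v, hv, hy⟩ : ∃ v, B v z = 0 ∧ B y z • y₀ + v = y :=
          ⟨y - B y z • y₀, by rw [hs.sub_left, hs.smul_left, hy₀, mul_one, sub_self], by abel⟩
        generalize B y z = t at hy ⊢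
        subst hy
        rw [mulVec_add, mulVec_smul, quad_add (Q := Q), hQ.smul, hQρ v hv, hs.smul_left, hBρ v hv,
          quad_add (Q := Q), hQ.smul, hs.smul_left, hD]
        ring
      have hD0 : D ≠ 0 := fun h => hρS ⟨(Units.mk0 μ hμ)⁻¹, fun v => by
        rw [hQall, h, zero_mul, add_zero, Units.val_inv_eq_inv_val, Units.val_mk0]⟩
      have hTd : leftVec B z ⬝ᵥ ((-(D * μ)) • z) = 0 := by rw [dotProduct_smul, hzd, smul_zero]
      obtain ⟨T, hTdef⟩ : ∃ T, T = tv ((-(D * μ)) • z) (leftVec B z) := ⟨_, rfl⟩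
      have hh : ρ * T ∈ quadSimilarityGroup Q ⊓ specialLinear ι F := by
        refine ⟨⟨(Units.mk0 μ hμ)⁻¹, fun y => ?_⟩,
          (specialLinear ι F).mul_mem (hMS hρ) (hTdef ▸ tv_mem_specialLinear _ _)⟩
        rw [hTdef, Units.val_mul, ← mulVec_mulVec, tv_mulVec hTd, leftVec_dot hQ, smul_smul, hQall,
          quad_add (Q := Q), hQ.smul, hz, hs.smul_right, hs.add_left, hs.smul_left, hzz]
        simp only [RingEquiv.refl_apply, Units.val_inv_eq_inv_val, Units.val_mk0]
        field_simp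
        ring
      have hTM : T ∈ M := by
        have := M.mul_mem (M.inv_mem hρ) (hM hh)
        rwa [inv_mul_cancel_left] at this
      rw [hTdef, ← tv_smul_right] at hTM
      refine rootIn_of_tv hQ hodd hM hz hz0 (by rw [smul_dotProduct, hzd, smul_zero])
        (smul_ne_zero (neg_ne_zero.mpr (mul_ne_zero hD0 hμ)) (hs.leftVec_ne_zero hz0)) hTM
    -- a defect inside the unipotent radical
    push Not at hall
    obtain ⟨w, hwz, y₂, hy₂⟩ := hall
    set v := μ • ((ρ : Matrix ι ι F) *ᵥ w) with hv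
    have hvz : B v z = 0 := by rw [hv, hs.smul_left, hfρ, hwz, mul_zero, mul_zero]
    obtain ⟨Y, hY⟩ : ∃ Y, Y = ρ * sieg Q z w * ρ⁻¹ := ⟨_, rfl⟩
    obtain ⟨S, hS⟩ : ∃ S, S = sieg Q z v := ⟨_, rfl⟩
    have hYM : Y ∈ M := hY ▸ M.mul_mem (M.mul_mem hρ (hM (sieg_mem hQ hz hwz))) (M.inv_mem hρ)
    have hSM : S ∈ M := hS ▸ hM (sieg_mem hQ hz hvz)
    -- the defect as a linear form
    set d : ι → F := (leftVec B v + Q v • leftVec B z) -
      ((leftVec B w) ᵥ* R + (Q w * μ) • leftVec B z) with hd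
    have hdy : ∀ y, d ⬝ᵥ y = B y v + Q v * B y z - (B (R *ᵥ y) w + Q w * μ * B y z) := fun y => by
      rw [hd, sub_dotProduct, add_dotProduct, add_dotProduct, smul_dotProduct, smul_dotProduct,
        ← dotProduct_mulVec, leftVec_dot hQ, leftVec_dot hQ, leftVec_dot hQ, smul_eq_mul, smul_eq_mul]
    set a := d ᵥ* ((S⁻¹ : GL ι F) : Matrix ι ι F) with ha
    have hd0 : d ≠ 0 := by
      intro h
      have h0 : ∀ y, B y v + Q v * B y z - (B (R *ᵥ y) w + Q w * μ * B y z) = 0 := fun y => by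
        rw [← hdy, h, zero_dotProduct]
      have e1 := h0 ((ρ : Matrix ι ι F) *ᵥ w)
      rw [hR, mulVec_inv_cancel, hfρ, hwz, hv, hs.smul_right, RingEquiv.refl_apply,
        polar_self hQ, polar_self hQ] at e1
      have hQρw : Q ((ρ : Matrix ι ι F) *ᵥ w) = μ⁻¹ * Q w := by
        field_simp
        refine mul_left_cancel₀ h2 ?_
        linear_combination e1
      have e2 := h0 y₂
      rw [hv, hs.smul_right, RingEquiv.refl_apply, hQ.smul, hQρw] at e2
      refine hy₂ ?_
      field_simp at e2 ⊢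
      linear_combination e2
    have hdz : d ⬝ᵥ z = 0 := by
      rw [hdy, hRz, hzz, polar_symm z v, hvz, polar_symm z w, hwz]; ring
    have hSz : ((S⁻¹ : GL ι F) : Matrix ι ι F) *ᵥ z = z := by
      have h' : (S : Matrix ι ι F) *ᵥ z = z := by
        rw [hS, sieg_mulVec hQ hz hvz, hzz, polar_symm z v, hvz]; simp
      conv_lhs => rw [← h']
      exact mulVec_inv_cancel S z
    have haz : a ⬝ᵥ z = 0 := by rw [ha, ← dotProduct_mulVec, hSz, hdz]
    have key : Y = tv z a * S := by
      refine gl_ext fun y => ?_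
      rw [Units.val_mul, ← mulVec_mulVec, tv_mulVec haz, ha, ← dotProduct_mulVec, mulVec_inv_cancel,
        hdy, hS, hY, sieg_mulVec hQ hz hvz, Units.val_mul, Units.val_mul, ← mulVec_mulVec,
        ← mulVec_mulVec, ← hR, sieg_mulVec hQ hz hwz, hf', mulVec_sub, mulVec_add, mulVec_smul,
        mulVec_smul, hR, mulVec_cancel_inv, hρz, ← hR, hv]
      module
    refine rootIn_of_tv hQ hodd hM hz hz0 haz (fun h => hd0 ?_) (hword Y S a hYM hSM haz key)
    have := congrArg (· ᵥ* (S : Matrix ι ι F)) h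
    simpa [ha, vecMul_vecMul] using this
  -- `ρ` moves the hyperplane `z⊥`
  push Not at hpz
  have hpz' : B z p = 0 := by rw [← hf, hRz, hzz]
  obtain ⟨m, hmK, hmz'⟩ : ∃ m ∈ dotsKer ![leftVec B z, leftVec B p], m ∉ Submodule.span F {z} := by
    by_contra hcon
    push Not at hcon
    have h1 := Submodule.finrank_mono
      (hcon : dotsKer ![leftVec B z, leftVec B p] ≤ Submodule.span F {z})
    have h3 := finrank_dotsKer ![leftVec B z, leftVec B p]
    rw [finrank_span_singleton hz0] at h1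
    omega
  obtain ⟨hmz, hmp⟩ := mem_dotsKer_two hQ hmK
  have hne : ∀ c : F, c • z ≠ m + Q m • p := by
    intro c hc
    have e : m = c • z + (-Q m) • p := by rw [hc]; module
    by_cases hm : Q m = 0
    · rw [hm, neg_zero, zero_smul, add_zero] at e
      exact hmz' (Submodule.mem_span_singleton.mpr ⟨c, e.symm⟩)
    have hpp : Q m * Q p = 0 := by
      have := congrArg (fun y => B y p) e
      simp only [hmp, hs.add_left, hs.smul_left, hpz', polar_self hQ] at this
      exact (mul_eq_zero.mp (show (2 : F) * (Q m * Q p) = 0 by linear_combination this)).resolve_left h2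
    have hQp := (mul_eq_zero.mp hpp).resolve_left hm
    refine hm ?_
    rw [e, quad_add (Q := Q), hQ.smul, hQ.smul, hz, hQp, hs.smul_left, hs.smul_right, hpz']
    simp
  obtain ⟨x, hxz, hxp, hxm⟩ := exists_avoid_two hQ hpz hne
  rw [hs.add_right, hs.smul_right, RingEquiv.refl_apply] at hxm
  set f₁ := B x p with hf₁
  set w₂ := R *ᵥ m with hw₂
  have hw₂z : B w₂ z = 0 := by rw [hw₂, hf, hmp]
  have hcz : B ((-f₁) • m) z = 0 := by rw [hs.smul_left, hmz, mul_zero]
  obtain ⟨X, hX⟩ : ∃ X, X = sieg Q z x := ⟨_, rfl⟩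
  obtain ⟨Y, hY⟩ : ∃ Y, Y = ρ * sieg Q z w₂ * ρ⁻¹ := ⟨_, rfl⟩
  obtain ⟨S, hS⟩ : ∃ S, S = sieg Q z ((-f₁) • m) := ⟨_, rfl⟩
  have hXM : X ∈ M := hX ▸ hM (sieg_mem hQ hz hxz)
  have hYM : Y ∈ M := hY ▸ M.mul_mem (M.mul_mem hρ (hM (sieg_mem hQ hz hw₂z))) (M.inv_mem hρ)
  have hSM : S ∈ M := hS ▸ hM (sieg_mem hQ hz hcz)
  -- the defect as a linear form
  set φ : ι → F := (leftVec B w₂) ᵥ* R + Q w₂ • leftVec B p with hφ
  have hφy : ∀ y, φ ⬝ᵥ y = B (R *ᵥ y) w₂ + Q w₂ * B y p := fun y => by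
    rw [hφ, add_dotProduct, smul_dotProduct, ← dotProduct_mulVec, leftVec_dot hQ, leftVec_dot hQ,
      smul_eq_mul]
  set d : ι → F := (φ ⬝ᵥ x - f₁ * B m x - f₁ ^ 2 * Q m) • leftVec B z -
    (B m x + 2 * f₁ * Q m) • leftVec B p - f₁ • leftVec B m with hd
  have hdy : ∀ y, d ⬝ᵥ y = (φ ⬝ᵥ x - f₁ * B m x - f₁ ^ 2 * Q m) * B y z -
      (B m x + 2 * f₁ * Q m) * B y p - f₁ * B y m := fun y => by
    simp only [hd, sub_dotProduct, smul_dotProduct, leftVec_dot hQ, smul_eq_mul]
  have hXv : ∀ y, (X : Matrix ι ι F) *ᵥ y = y + B y z • x - (B y x + Q x * B y z) • z := fun y => by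
    rw [hX, sieg_mulVec hQ hz hxz]
  have hYv : ∀ y, (Y : Matrix ι ι F) *ᵥ y = y + B y p • m - (φ ⬝ᵥ y) • z := fun y => by
    rw [hY, Units.val_mul, Units.val_mul, ← mulVec_mulVec, ← mulVec_mulVec, ← hR,
      sieg_mulVec hQ hz hw₂z, hf, mulVec_sub, mulVec_add, mulVec_smul, mulVec_smul, hR,
      mulVec_cancel_inv, hρz, ← hR, hw₂, hR, mulVec_cancel_inv, hφy]
  have hSv : ∀ y, (S : Matrix ι ι F) *ᵥ y = y + (-f₁ * B y z) • m -
      (-f₁ * B y m + f₁ ^ 2 * Q m * B y z) • z := fun y => by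
    rw [hS, sieg_mulVec hQ hz hcz, hs.smul_right, RingEquiv.refl_apply, hQ.smul, smul_smul]
    module
  have hBzx : B z x = 0 := by rwa [polar_symm]
  have hBzm : B z m = 0 := by rwa [polar_symm]
  have hφz : φ ⬝ᵥ z = 0 := by rw [hφy, hRz, polar_symm z w₂, hw₂z, hpz']; ring
  obtain ⟨P, hP⟩ : ∃ P, P = S * (Y * X) := ⟨_, rfl⟩
  set a := d ᵥ* ((P⁻¹ : GL ι F) : Matrix ι ι F) with ha
  have hPz : ((P⁻¹ : GL ι F) : Matrix ι ι F) *ᵥ z = z := by
    have h' : (P : Matrix ι ι F) *ᵥ z = z := by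
      rw [hP, Units.val_mul, Units.val_mul, ← mulVec_mulVec, ← mulVec_mulVec, hXv, hzz, hBzx]
      simp [hYv, hSv, hpz', hφz, hzz, hBzm]
    conv_lhs => rw [← h']
    exact mulVec_inv_cancel P z
  have hdz : d ⬝ᵥ z = 0 := by rw [hdy, hzz, hpz', hBzm]; ring
  have haz : a ⬝ᵥ z = 0 := by rw [ha, ← dotProduct_mulVec, hPz, hdz]
  have key : X * Y = tv z a * P := by
    refine gl_ext fun y => ?_
    rw [Units.val_mul (tv z a), ← mulVec_mulVec, tv_mulVec haz, ha, ← dotProduct_mulVec,
      mulVec_inv_cancel, hdy, hP, Units.val_mul, Units.val_mul, Units.val_mul, ← mulVec_mulVec,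
      ← mulVec_mulVec, ← mulVec_mulVec]
    simp only [hXv, hYv, hSv, hs.add_left, hs.sub_left, hs.smul_left, dotProduct_add, dotProduct_sub,
      dotProduct_smul, smul_eq_mul, hφz, hxz, hzz, hpz', hmz, hBzm, hBzx, polar_self hQ m,
      polar_symm x m, ← hf₁]
    module
  refine rootIn_of_tv hQ hodd hM hz hz0 haz (fun h => ?_)
    (hword _ _ a (M.mul_mem hXM hYM) (hP ▸ M.mul_mem hSM (M.mul_mem hYM hXM)) haz key)
  have hd0 : d ⬝ᵥ x = 0 := by
    have := congrArg (· ᵥ* (P : Matrix ι ι F)) h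
    have e : d = 0 := by simpa [ha, vecMul_vecMul] using this
    rw [e, zero_dotProduct]
  rw [hdy, hxz, ← hf₁, polar_symm m x] at hd0
  refine mul_ne_zero (mul_ne_zero h2 hxp) hxm ?_
  linear_combination -hd0

/-- A subgroup containing the Siegel transformations of `u⊥` preserves only the trivial subspaces
of it. -/
theorem le_of_sieg_invariant (hQ : IsNondegenerateQuadraticForm Q) (hodd : Odd (Fintype.card F))
    {u x z w₀ : ι → F} (hxu : B x u = 0) (hzu : B z u = 0) (hz : Q z = 0) (hzx : B z x ≠ 0)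
    (hw₀u : B w₀ u = 0) (hw₀z : B w₀ z = 0) (hQw₀ : Q w₀ ≠ 0) (X : Submodule F (ι → F))
    (hxX : x ∈ X)
    (hX : ∀ z w, Q z = 0 → B z u = 0 → B w u = 0 → B w z = 0 →
      ∀ y ∈ X, (sieg Q z w : Matrix ι ι F) *ᵥ y ∈ X)
    (v : ι → F) (hv : B v u = 0) : v ∈ X := by
  have hs := sesqForm_of_quadratic hQ
  have h2 := two_ne_zero_of_odd hodd
  have hxz : B x z ≠ 0 := by rwa [polar_symm]
  have hboth : ∀ w, B w u = 0 → B w z = 0 →
      (Q w * B x z) • z ∈ X ∧ (B x z • w - B x w • z) ∈ X := by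
    intro w hwu hwz
    have hp := X.sub_mem (hX z w hz hzu hwu hwz x hxX) hxX
    have hwz' : B (-w) z = 0 := by rw [hs.neg_left, hwz, neg_zero]
    have hm := X.sub_mem
      (hX z (-w) hz hzu (by rw [hs.neg_left, hwu, neg_zero]) hwz' x hxX) hxX
    rw [sieg_mulVec hQ hz hwz] at hp
    rw [sieg_mulVec hQ hz hwz', hs.neg_right] at hm
    have hQn : Q (-w) = Q w := by rw [← neg_one_smul F w, hQ.smul]; ring
    rw [hQn] at hm
    refine ⟨?_, ?_⟩
    · have := X.smul_mem (-(2 : F)⁻¹) (X.add_mem hp hm)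
      convert this using 1
      match_scalars <;> field_simp <;> ring
    · have := X.smul_mem (2 : F)⁻¹ (X.sub_mem hp hm)
      convert this using 1
      match_scalars <;> field_simp <;> ring
  have hzX : z ∈ X := by
    have h := (hboth w₀ hw₀u hw₀z).1
    rwa [X.smul_mem_iff (mul_ne_zero hQw₀ hxz)] at h
  have hperp : ∀ w, B w u = 0 → B w z = 0 → w ∈ X := by
    intro w hwu hwz
    have := X.add_mem (hboth w hwu hwz).2 (X.smul_mem (B x w) hzX)
    rw [sub_add_cancel, X.smul_mem_iff hxz] at this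
    exact this
  have := hperp (v - (B v z / B x z) • x)
    (by rw [hs.sub_left, hs.smul_left, hv, hxu, mul_zero, sub_zero])
    (by rw [hs.sub_left, hs.smul_left, div_mul_cancel₀ _ hxz, sub_self])
  simpa using X.add_mem this (X.smul_mem (B v z / B x z) hxX)

/-- A subgroup containing the quadratic similarities of determinant one and something else contains
`SL`. -/
theorem specialLinear_le_of_quadratic (hQ : IsNondegenerateQuadraticForm Q)
    (hodd : Odd (Fintype.card F)) (hn : 4 ≤ Fintype.card ι) {M : Subgroup (GL ι F)}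
    (hM : quadSimilarityGroup Q ⊓ specialLinear ι F ≤ M) (hMS : M ≤ specialLinear ι F)
    {g : GL ι F} (hg : g ∈ M) (hg' : g ∉ quadSimilarityGroup Q) : specialLinear ι F ≤ M := by
  have hs := sesqForm_of_quadratic hQ
  have h2 := two_ne_zero_of_odd hodd
  have hsM : ∀ u w, Q u = 0 → B w u = 0 → sieg Q u w ∈ M := fun u w hu huw =>
    hM (sieg_mem hQ hu huw)
  obtain ⟨u, hu, hu0, ρ, hρ, hρu, hρS⟩ := exists_fixing hQ hodd hn hM hg hg'
  have hRu := rootIn_of_fixing hQ hodd hn hM hMS hu hu0 hρ hρu hρS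
  have huu : B u u = 0 := by rw [polar_self hQ, hu, mul_zero]
  -- a second such root group, not orthogonal to the first
  obtain ⟨z, hz, hzu⟩ := exists_singular_not_orth₀ hQ hodd (by omega) hu0
  obtain ⟨w, hw, hQw⟩ := exists_nonsingular hQ (dotsKer ![leftVec B z]) (by
    have := finrank_dotsKer ![leftVec B z]; omega)
  have hwz : B w z = 0 := mem_dotsKer_one hQ hw
  have hiso : ∀ x, Q ((sieg Q z w : Matrix ι ι F) *ᵥ x) = Q x := sieg_quad hQ hz hwz
  set u₂ := (sieg Q z w : Matrix ι ι F) *ᵥ u with hu2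
  have hR2 : RootIn M u₂ (leftVec B u₂) := by
    have := hRu.conj (hsM z w hz hwz)
    rwa [leftVec_conj_isometry hQ hiso] at this
  set k := B u₂ u with hk
  have hk0 : k ≠ 0 := by
    have huz : B u z ≠ 0 := by rwa [polar_symm]
    rw [hk, hu2, sieg_mulVec hQ hz hwz, hs.sub_left, hs.add_left, hs.smul_left, hs.smul_left, huu,
      polar_symm w u, polar_symm z u,
      show 0 + B u z * B u w - (B u w + Q w * B u z) * B u z = -(Q w * B u z ^ 2) by ring]
    exact neg_ne_zero.mpr (mul_ne_zero hQw (pow_ne_zero _ huz))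
  have hu22 : Q u₂ = 0 := by rw [hu2, hiso, hu]
  have hku : B u u₂ = k := polar_symm u u₂
  have h22 : leftVec B u₂ ⬝ᵥ u₂ = 0 := by rw [leftVec_dot hQ, polar_self hQ, hu22, mul_zero]
  -- a root group whose centre and axis are non-singular
  set v' := u + k • u₂ with hv'
  set u' := u - k • u₂ with hu'
  have hR' : RootIn M v' (leftVec B u') := by
    have h := hRu.conj hR2.mem
    rw [tv_mulVec h22, leftVec_dot hQ, hku, tv_inv,
      vecMul_tv (by rw [dotProduct_neg, h22, neg_zero]), dotProduct_neg, leftVec_dot hQ, ← hk] at h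
    convert h using 1
    rw [hu', sub_eq_add_neg, ← neg_smul, hs.leftVec_add, hs.leftVec_smul]
    rfl
  have hv'u' : B v' u' = 0 := by rw [← leftVec_dot hQ]; exact hR'.1
  have hQv' : Q v' ≠ 0 := by
    rw [hv', quad_add (Q := Q), hQ.smul, hu, hu22, hs.smul_right, hku]
    simpa using hk0
  have hQu' : Q u' ≠ 0 := by
    rw [hu', sub_eq_add_neg, ← neg_smul, quad_add (Q := Q), hQ.smul, hu, hu22, hs.smul_right, hku]
    simpa using hk0
  obtain ⟨z₁, hz1u, hz1, hz1v⟩ := exists_singular_not_orth₁ hQ hodd hn hQu' hQv' hv'u'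
  obtain ⟨w₁, hw1, hQw1⟩ : ∃ t ∈ dotsKer ![leftVec B u', leftVec B z₁], Q t ≠ 0 := by
    by_contra hcon
    push Not at hcon
    set K := dotsKer ![leftVec B u', leftVec B z₁]
    have h1 := (sesqForm_of_quadratic hQ).two_finrank_le (K ⊔ Submodule.span F {z₁}) (by
      have hz11 : B z₁ z₁ = 0 := by rw [polar_self hQ, hz1, mul_zero]
      intro s hs' t ht
      obtain ⟨s1, hs1, s2, hs2, rfl⟩ := Submodule.mem_sup.mp hs'
      obtain ⟨t1, ht1, t2, ht2, rfl⟩ := Submodule.mem_sup.mp ht
      obtain ⟨c, rfl⟩ := Submodule.mem_span_singleton.mp hs2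
      obtain ⟨c', rfl⟩ := Submodule.mem_span_singleton.mp ht2
      have h0 : B s1 t1 = 0 := by
        simp only [QuadraticMap.polar]
        rw [hcon _ hs1, hcon _ ht1, hcon _ (K.add_mem hs1 ht1)]; ring
      simp only [hs.add_left, hs.add_right, hs.smul_left, hs.smul_right, h0, hz11,
        polar_symm z₁ t1, (mem_dotsKer_two hQ hs1).2, (mem_dotsKer_two hQ ht1).2]
      ring)
    have h3 : Fintype.card ι - 2 ≤ Module.finrank F K :=
      Nat.sub_le_iff_le_add.mpr (finrank_dotsKer ![leftVec B u', leftVec B z₁])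
    have hz1K : z₁ ∈ K := by
      rw [mem_dotsKer]
      intro i
      fin_cases i <;> simp [leftVec_dot hQ, hz1u, polar_self hQ, hz1]
    rw [sup_eq_left.mpr ((Submodule.span_singleton_le_iff_mem _ _).mpr hz1K)] at h1
    -- `K` is totally singular of half the dimension, hence its own orthogonal; so `u' ∈ K`
    have hlt : K < K ⊔ Submodule.span F {u'} := by
      refine lt_of_le_of_ne le_sup_left fun h => ?_
      have : u' ∈ K := h ▸ Submodule.mem_sup_right (Submodule.mem_span_singleton_self u')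
      exact hQu' (hcon _ this)
    have h5 := (sesqForm_of_quadratic hQ).two_finrank_le K fun s hs' t ht => by
      simp only [QuadraticMap.polar]
      rw [hcon _ hs', hcon _ ht, hcon _ (K.add_mem hs' ht)]; ring
    obtain ⟨C, hC⟩ := Submodule.exists_isCompl (K ⊔ Submodule.span F {u'})
    let b := Module.finBasis F C
    let L : K →ₗ[F] (Fin (Module.finrank F C) → F) :=
      { toFun := fun s i => B (s : ι → F) (b i : ι → F)
        map_add' := fun s t => funext fun i => hs.add_left _ _ _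
        map_smul' := fun c s => funext fun i => hs.smul_left _ _ _ }
    have hL : Function.Injective L := by
      rw [injective_iff_map_eq_zero]
      intro s hs0
      by_contra hne
      obtain ⟨y, hy⟩ := (hs.nondegenerate (s : ι → F) (by simpa using hne)).2
      refine hy ?_
      have hy' : y ∈ (K ⊔ Submodule.span F {u'}) ⊔ C := hC.sup_eq_top ▸ Submodule.mem_top
      obtain ⟨y1, hy1, c, hc, rfl⟩ := Submodule.mem_sup.mp hy'
      obtain ⟨y2, hy2, y3, hy3, rfl⟩ := Submodule.mem_sup.mp hy1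
      obtain ⟨l, rfl⟩ := Submodule.mem_span_singleton.mp hy3
      have hc0 : B (s : ι → F) c = 0 := by
        have hrep := congrArg C.subtype (b.sum_repr ⟨c, hc⟩)
        simp only [map_sum, map_smul, Submodule.subtype_apply] at hrep
        rw [← hrep]
        let R : (ι → F) →+ F :=
          { toFun := fun y => B (s : ι → F) y
            map_zero' := hs.zero_right _
            map_add' := hs.add_right _ }
        show R _ = 0
        rw [map_sum]
        refine Finset.sum_eq_zero fun i _ => ?_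
        show B (s : ι → F) _ = 0
        rw [hs.smul_right, show B (s : ι → F) (b i : ι → F) = 0 from congrFun hs0 i, mul_zero]
      have h0 : B (s : ι → F) y2 = 0 := by
        simp only [QuadraticMap.polar]
        rw [hcon _ s.2, hcon _ hy2, hcon _ (K.add_mem s.2 hy2)]; ring
      rw [hs.add_right, hs.add_right, hs.smul_right, (mem_dotsKer_two hQ s.2).1, h0, hc0]
      simp
    have h6 := LinearMap.finrank_le_finrank_of_injective hL
    rw [Module.finrank_fin_fun] at h6
    have h7 := Submodule.finrank_add_eq_of_isCompl hC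
    rw [Module.finrank_pi] at h7
    have := Submodule.finrank_lt_finrank_of_lt hlt
    omega
  obtain ⟨hw1u, hw1z⟩ := mem_dotsKer_two hQ hw1
  have hfull : FullAxis M (leftVec B u') := by
    refine fullAxis_of_centres fun v hv => ?_
    rw [leftVec_dot hQ] at hv
    refine le_of_sieg_invariant hQ hodd hv'u' hz1u hz1 hz1v hw1u hw1z hQw1 _ (mem_centres.mpr hR')
      (fun a b ha hau hbu hba y hy => ?_) v hv
    have hfix : (sieg Q a b : Matrix ι ι F) *ᵥ u' = u' := by
      rw [sieg_mulVec hQ ha hba, polar_symm u' a, hau, polar_symm u' b, hbu]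
      simp
    have := (mem_centres.mp hy).conj (hsM a b ha hba)
    rw [leftVec_conj_isometry hQ (sieg_quad hQ ha hba), hfix] at this
    exact this
  have hu'0 : u' ≠ 0 := fun h => hQu' (by rw [h, quad_zero hQ])
  refine specialLinear_le_of_fullAxis (fun X hX => ?_) (hs.leftVec_ne_zero hu'0) hfull
  by_contra hcon
  push Not at hcon
  obtain ⟨x, hxX, hx0⟩ := Submodule.exists_mem_ne_zero_of_ne_bot hcon.1
  obtain ⟨z₂, hz2, hz2x⟩ := exists_singular_not_orth₀ hQ hodd (by omega) hx0
  obtain ⟨w₂, hw2, hQw2⟩ := exists_nonsingular hQ (dotsKer ![leftVec B z₂]) (by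
    have := finrank_dotsKer ![leftVec B z₂]; omega)
  refine hcon.2 (Submodule.eq_top_iff'.mpr fun v => ?_)
  exact le_of_sieg_invariant hQ hodd (hs.zero_right x) (hs.zero_right z₂) hz2 hz2x (hs.zero_right w₂)
    (mem_dotsKer_one hQ hw2) hQw2 X hxX
    (fun a b ha _ _ hba y hy => hX _ (hsM a b ha hba) y hy) v (hs.zero_right v)

end CfsgLib.SimilarityMax.Four

namespace CfsgLib.SimilarityMax

open Matrix Cfsg.Geo CfsgLib.MaxSub

variable {ι : Type} [Fintype ι] [DecidableEq ι] {F : Type*} [Field F] [Fintype F]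
  {Q : (ι → F) → F}

/-- In dimension at least four and odd characteristic the similarity group of a quadratic form is
maximal in `SL`. -/
theorem isMaximalIn_quadratic_four (hQ : IsNondegenerateQuadraticForm Q)
    (hodd : Odd (Fintype.card F)) (hn : 4 ≤ Fintype.card ι) :
    IsMaximalIn (specialLinear ι F) (quadSimilarityGroup Q ⊓ specialLinear ι F) := by
  refine isMaximalIn_of inf_le_right ?_ fun M hHM hMK g hg hg' =>
    Four.specialLinear_le_of_quadratic hQ hodd hn hHM hMK hg fun h => hg' ⟨h, hMK hg⟩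
  obtain ⟨v, a, h⟩ := (sesqForm_of_quadratic hQ).exists_tv_not_similar (by omega)
  refine ⟨tv v a, tv_mem_specialLinear v a, fun h' => h ?_⟩
  obtain ⟨c, hc⟩ := h'.1
  exact ⟨c, fun x y => by simp only [QuadraticMap.polar, ← mulVec_add, hc]; ring⟩

end CfsgLib.SimilarityMax
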