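import Cfsg.Agent.MaxSub.UnitarySimilarity

/-!
# Unitary similarity groups are maximal in `SL_n`, `n ≥ 4`

The arguments of `MaxSub.UnitarySimilarity`; the first root group comes from differences of isotropic
vectors with a fixed product with the centre of one foreign transvection.
-/

set_option autoImplicit false
set_option linter.unusedSectionVars false

namespace CfsgLib.SimilarityMax

open Matrix Cfsg.Geo CfsgLib.MaxSub

variable {ι : Type} [Fintype ι] [DecidableEq ι] {F : Type*} [Field F]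
  {σ : F ≃+* F} {f : (ι → F) → (ι → F) → F}

/-- An isotropic vector in `u⊥` not orthogonal to `v ∈ u⊥ \ F u`, in dimension at least four. -/
theorem exists_iso_not_orth' [Finite F] (hf : IsUnitaryForm σ f) (hn : 4 ≤ Fintype.card ι)
    {u v : ι → F} (hvu : f v u = 0) (hne : ∀ c : F, c • u ≠ v) :
    ∃ z, f z u = 0 ∧ f z z = 0 ∧ f z v ≠ 0 := by
  have hs := sesqForm_of_unitary hf
  by_cases hvv : f v v = 0
  · obtain ⟨w, hwu, hwv⟩ := hs.exists_orth_not_orth hne
    obtain ⟨t, h1, h2⟩ := exists_iso_shift hf hvv (w := w) (by rw [hwv]; exact one_ne_zero)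
    exact ⟨_, by rw [hs.add_left, hs.smul_left, hwu, hvu]; ring, h1,
      by rw [h2, hwv]; exact one_ne_zero⟩
  by_contra hcon
  push Not at hcon
  -- an isotropic `y ∈ u⊥` outside `F u`
  obtain ⟨y, hyu, hyy, hyne⟩ : ∃ y, f y u = 0 ∧ f y y = 0 ∧ ∀ c : F, c • u ≠ y := by
    obtain ⟨a, ha⟩ : ∃ a : ι → F, u ≠ 0 → a ⬝ᵥ u = 1 := by
      by_cases hu : u = 0
      · exact ⟨0, fun h => absurd hu h⟩
      · obtain ⟨a, ha⟩ := exists_dot_eq_one hu
        exact ⟨a, fun _ => ha⟩
    obtain ⟨y, hy, hy0, hyy⟩ := exists_iso_mem hf (dotsKer ![leftVec f u, a])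
      (by have := finrank_dotsKer ![leftVec f u, a]; omega)
    rw [mem_dotsKer] at hy
    have hay : a ⬝ᵥ y = 0 := by simpa using hy 1
    refine ⟨y, by simpa [hs.dot_leftVec] using hy 0, hyy, fun c hc => hy0 ?_⟩
    rw [← hc]
    rcases eq_or_ne u 0 with rfl | hu
    · rw [smul_zero]
    · rw [← hc, dotProduct_smul, ha hu, smul_eq_mul, mul_one] at hay
      rw [hay, zero_smul]
  have hyv := hcon y hyu hyy
  obtain ⟨w, hwu, hwy⟩ := hs.exists_orth_not_orth hyne
  obtain ⟨t, h1, h2⟩ := exists_iso_shift hf hyy (w := w) (by rw [hwy]; exact one_ne_zero)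
  have hxu : f (w + t • y) u = 0 := by rw [hs.add_left, hs.smul_left, hwu, hyu]; ring
  have hxv := hcon _ hxu h1
  obtain ⟨s, h3, -⟩ := exists_iso_shift hf hyy (w := v + (w + t • y))
    (by rw [hs.add_left, unitary_orth_symm hf hyv, h2, hwy, zero_add]; exact one_ne_zero)
  have h4 := hcon _ (by rw [hs.add_left, hs.smul_left, hs.add_left, hvu, hxu, hyu]; ring) h3
  rw [hs.add_left, hs.smul_left, hs.add_left, hxv, hyv] at h4
  exact hvv (by linear_combination h4)

/-- A transvection with isotropic centre `P` and an axis other than the polar of `P` gives a full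
root group of the same kind. -/
theorem exists_rootIn_iso [Finite F] (hf : IsUnitaryForm σ f) (hn : 4 ≤ Fintype.card ι)
    {M : Subgroup (GL ι F)} {c : F} (hc0 : c ≠ 0) (hc : σ c = -c)
    (hseed : ∀ z, f z z = 0 → tv (c • z) (leftVec f z) ∈ M) {P u : ι → F} (hP : f P P = 0)
    (hPu : f P u = 0) (hu0 : u ≠ 0) (hne : ∀ b : F, b • u ≠ P) {k : F} (hk0 : k ≠ 0)
    (hT : tv (k • P) (leftVec f u) ∈ M) :
    ∃ y u', f y y = 0 ∧ u' ≠ 0 ∧ (∀ b : F, b • u' ≠ y) ∧ RootIn M y (leftVec f u') := by
  have hs := sesqForm_of_unitary hf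
  obtain ⟨w₀, hw₀u, hw₀P⟩ := hs.exists_orth_not_orth hne
  obtain ⟨t₀, hz0, hz0P⟩ := exists_iso_shift hf hP (w := w₀) (by rw [hw₀P]; exact one_ne_zero)
  set z₀ := w₀ + t₀ • P
  rw [hw₀P] at hz0P
  have hz0u : f z₀ u = 0 := by rw [hs.add_left, hs.smul_left, hw₀u, hPu]; ring
  have hPz0 : f P z₀ = 1 := by rw [hf.herm, hz0P, map_one]
  clear_value z₀
  have hstep : ∀ z, f z u = 0 → f z z = 0 → f P z = 1 →
      tv ((k * c) • z) (leftVec f u) ∈ M := by
    intro z h1 h2 h3
    have := tv_rule_axis (by rw [dotProduct_smul, hs.dot_leftVec, hPu, smul_zero])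
      (by rw [dotProduct_smul, hs.dot_leftVec, h2, smul_zero])
      (by rw [dotProduct_smul, hs.dot_leftVec, h1, smul_zero]) hT (hseed z h2)
    rwa [dotProduct_smul, hs.dot_leftVec, h3, smul_eq_mul, mul_one, tv_smul_right, smul_smul]
      at this
  -- differences
  have hA : ∀ x, f x u = 0 → f (z₀ + x) (z₀ + x) = 0 → f P x = 0 →
      tv ((k * c) • x) (leftVec f u) ∈ M := by
    intro x h1 h2 h3
    have hb := M.inv_mem (hstep z₀ hz0u hz0 hPz0)
    rw [tv_inv] at hb
    have := tv_mem_add_left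
      (by rw [dotProduct_smul, hs.dot_leftVec, hs.add_left, hz0u, h1, zero_add, smul_zero])
      (by rw [dotProduct_neg, dotProduct_smul, hs.dot_leftVec, hz0u, smul_zero, neg_zero])
      (hstep (z₀ + x) (by rw [hs.add_left, hz0u, h1, zero_add]) h2
        (by rw [hs.add_right, hPz0, h3, add_zero])) hb
    convert this using 2
    rw [smul_add]
    abel
  obtain ⟨e, he, he0⟩ := Submodule.exists_mem_ne_zero_of_ne_bot
    (p := dotsKer ![leftVec f u, leftVec f P, leftVec f z₀]) fun h => by
      have := finrank_dotsKer ![leftVec f u, leftVec f P, leftVec f z₀]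
      rw [h, finrank_bot] at this
      omega
  rw [mem_dotsKer] at he
  have heu : f e u = 0 := by simpa [hs.dot_leftVec] using he 0
  have heP : f e P = 0 := by simpa [hs.dot_leftVec] using he 1
  have hez : f e z₀ = 0 := by simpa [hs.dot_leftVec] using he 2
  have hPe : f P e = 0 := unitary_orth_symm hf heP
  have hze : f z₀ e = 0 := unitary_orth_symm hf hez
  have hval : ∀ m s : F, f (z₀ + (m • e + s • P)) (z₀ + (m • e + s • P)) =
      s + σ s + m * σ m * f e e := by
    intro m s
    simp only [hs.add_left, hs.add_right, hs.smul_left, hs.smul_right, hz0, hze, hez, hz0P, hPz0,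
      heP, hPe, hP]
    ring
  have hkc : k * c ≠ 0 := mul_ne_zero hk0 hc0
  by_cases hee : f e e = 0
  · have hRe : RootIn M e (leftVec f u) := by
      refine ⟨by rw [hs.dot_leftVec, heu], fun d => ?_⟩
      have := hA ((d / (k * c)) • e) (by rw [hs.smul_left, heu, mul_zero])
        (by have := hval (d / (k * c)) 0; rw [zero_smul, add_zero] at this; rw [this, hee]; simp)
        (by rw [hs.smul_right, hPe, mul_zero])
      rwa [smul_smul, mul_div_cancel₀ _ hkc] at this
    by_cases hbe : ∃ b : F, b • u = e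
    · -- `u` is isotropic and its root group moves the axis
      obtain ⟨b, hb⟩ := hbe
      have hb0 : b ≠ 0 := fun h => he0 (by rw [← hb, h, zero_smul])
      have huu : f u u = 0 := by
        rw [← hb, hs.smul_left] at heu
        exact (mul_eq_zero.mp heu).resolve_left hb0
      have hRu : RootIn M u (leftVec f u) := by
        have := hRe.smul_left b⁻¹
        rwa [← hb, inv_smul_smul₀ hb0] at this
      have huP : f u P = 0 := unitary_orth_symm hf hPu
      obtain ⟨w, hwP, hww, hwu⟩ := exists_iso_not_orth' hf hn (u := P) (v := u) huP fun b' hb' => by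
        rcases eq_or_ne b' 0 with rfl | h0
        · exact hu0 (by simpa using hb'.symm)
        · exact hne b'⁻¹ (by rw [← hb', inv_smul_smul₀ h0])
      have hwd : leftVec f w ⬝ᵥ (c • w) = 0 := by
        rw [dotProduct_smul, hs.dot_leftVec, hww, smul_zero]
      set u₁ := u + (f u w * c) • w with hu₁
      have hR1 : RootIn M u₁ (leftVec f u₁) := by
        have := hRu.conj (hseed w hww)
        rw [tv_mulVec hwd, hs.dot_leftVec, smul_smul, tv_inv,
          vecMul_tv (by rw [dotProduct_neg, hwd, neg_zero]), dotProduct_neg, dotProduct_smul,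
          hs.dot_leftVec, smul_eq_mul] at this
        convert this using 1
        rw [hu₁, hs.leftVec_add, hs.leftVec_smul, map_mul, hc, ← hf.herm]
        congr 1
        module
      have hPu₁ : f P u₁ = 0 := by
        rw [hu₁, hs.add_right, hs.smul_right, hPu, unitary_orth_symm hf hwP, mul_zero, add_zero]
      have hu₁u : f u₁ u ≠ 0 := by
        rw [hu₁, hs.add_left, hs.smul_left, huu, zero_add]
        exact mul_ne_zero (mul_ne_zero (unitary_ne_symm hf hwu) hc0) hwu
      have h0 := hR1.rule_axis (w := k • P) (b := leftVec f u)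
        (by rw [dotProduct_smul, hs.dot_leftVec, hPu, smul_zero]) hT
        (by rw [dotProduct_smul, hs.dot_leftVec, hPu₁, smul_zero]) (by rwa [hs.dot_leftVec])
      have := h0.smul_left k⁻¹
      rw [inv_smul_smul₀ hk0] at this
      refine ⟨P, u₁, hP, fun h => hu₁u (by rw [h, hs.zero_left]), fun b' hb' => ?_, this⟩
      rcases eq_or_ne b' 0 with rfl | h0'
      · exact hne 0 (by simpa using hb')
      · refine hu₁u ?_
        rw [show u₁ = b'⁻¹ • P by rw [← hb', inv_smul_smul₀ h0'], hs.smul_left, hPu, mul_zero]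
    · push Not at hbe
      exact ⟨e, u, hee, hu0, hbe, hRe⟩
  · -- the trace fills the line of `P`
    have hx : ∀ m s : F, s + σ s = -(m * σ m * f e e) →
        tv ((k * c) • (m • e + s • P)) (leftVec f u) ∈ M := fun m s h =>
      hA _ (by rw [hs.add_left, hs.smul_left, hs.smul_left, heu, hPu]; ring)
        (by rw [hval, h]; ring)
        (by rw [hs.add_right, hs.smul_right, hs.smul_right, hPe, hP]; ring)
    have hfix := herm_self hf e
    have hnorm : ∀ m : F, σ (-(m * σ m * f e e)) = -(m * σ m * f e e) := fun m => by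
      rw [map_neg, map_mul, map_mul, hf.involutive, hfix]; ring
    refine ⟨P, u, hP, hu0, hne, by rw [hs.dot_leftVec, hPu], fun d => ?_⟩
    set r := d / (k * c) with hr
    obtain ⟨m, hm⟩ := trace_surjective hf.ne_refl hf.involutive (a := -((r + σ r) / f e e))
      (by rw [map_neg, map_div₀, map_add, hf.involutive, hfix, add_comm])
    obtain ⟨s₁, hs₁⟩ := trace_surjective hf.ne_refl hf.involutive (hnorm 1)
    obtain ⟨s₂, hs₂⟩ := trace_surjective hf.ne_refl hf.involutive (hnorm m)
    have hm' : (m + σ m) * f e e = -(r + σ r) := by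
      rw [hm, neg_mul, div_mul_cancel₀ _ hee]
    have h12 := hx (m + 1) (r + s₂ + s₁) (by
      simp only [map_add, map_one] at hs₁ ⊢
      linear_combination hs₁ + hs₂ + hm')
    have hd : ∀ m s : F, leftVec f u ⬝ᵥ ((k * c) • (m • e + s • P)) = 0 := fun m s => by
      rw [dotProduct_smul, hs.dot_leftVec, hs.add_left, hs.smul_left, hs.smul_left, heu, hPu]
      simp
    have h1 := M.inv_mem (hx m s₂ hs₂)
    have h2 := M.inv_mem (hx 1 s₁ hs₁)
    rw [tv_inv] at h1 h2
    have h3 := tv_mem_add_left (hd _ _) (by rw [dotProduct_neg, hd, neg_zero]) h12 h1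
    have h4 := tv_mem_add_left (by rw [dotProduct_add, dotProduct_neg, hd, hd, neg_zero, add_zero])
      (by rw [dotProduct_neg, hd, neg_zero]) h3 h2
    have hrd : d • P = ((k * c) * r) • P := by rw [hr, mul_div_cancel₀ _ hkc]
    rw [hrd]
    convert h4 using 2
    module

/-- An element mapping isotropic transvections to isotropic transvections is a similarity. -/
theorem exists_bad_iso [Finite F] (hf : IsUnitaryForm σ f) (hn : 4 ≤ Fintype.card ι) {g : GL ι F}
    (hg : g ∉ similarityGroup f) :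
    ∃ v, f v v = 0 ∧ ∀ μ : F, ∃ x,
      f ((g : Matrix ι ι F) *ᵥ x) ((g : Matrix ι ι F) *ᵥ v) ≠ μ * f x v := by
  by_contra hcon
  push Not at hcon
  choose μ hμ using hcon
  have hs := sesqForm_of_unitary hf
  obtain ⟨z₀, -, hz00, hz0⟩ := exists_iso_mem hf ⊤ (by rw [finrank_top, Module.finrank_pi]; omega)
  obtain ⟨w, hw⟩ := hs.exists_left_ne_zero hz00
  obtain ⟨t, ht1, ht2⟩ := exists_iso_shift hf (w := (f w z₀)⁻¹ • w) hz0
    (by rw [hs.smul_left, inv_mul_cancel₀ hw]; exact one_ne_zero)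
  set z₁ := (f w z₀)⁻¹ • w + t • z₀
  have h10 : f z₁ z₀ = 1 := by rw [ht2, hs.smul_left, inv_mul_cancel₀ hw]
  clear_value z₁
  have hother : ∀ z (hz : f z z = 0), f z z₀ ≠ 0 → μ z hz = σ (μ z₀ hz0) := by
    intro z hz hne
    have h1 := hμ z₀ hz0 z
    have h2 := hμ z hz z₀
    rw [hf.herm, h1, map_mul, ← hf.herm] at h2
    exact (mul_right_cancel₀ (unitary_ne_symm hf hne) h2).symm
  obtain ⟨c, hc0, hc⟩ := exists_traceZero hf.ne_refl hf.involutive
  have hind : ∀ a : F, a • z₀ ≠ z₁ := fun a h => by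
    rw [← h, hs.smul_left, hz0, mul_zero] at h10
    exact zero_ne_one h10
  have h2iso : f (c • z₀ + (1 : F) • z₁) (c • z₀ + (1 : F) • z₁) = 0 := by
    rw [one_smul, hs.add_left, hs.add_right, hs.add_right, hs.smul_left, hs.smul_left,
      hs.smul_right, hs.smul_right, hz0, ht1, h10, hc, hf.herm z₀ z₁, h10, map_one]
    ring
  obtain ⟨e1, e2⟩ := hs.multiplier_eq hind hz00 hc0 one_ne_zero (hμ z₀ hz0) (hμ z₁ ht1)
    (hμ _ h2iso)
  have hfix : σ (μ z₀ hz0) = μ z₀ hz0 := by
    rw [← hother z₁ ht1 (by rw [h10]; exact one_ne_zero), ← e2, e1]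
  refine hg (hs.mem_similarityGroup_of_similarOn g (μ z₀ hz0) ?_)
  set S := hs.similarOn (g : Matrix ι ι F) (μ z₀ hz0) with hS
  have h0S : z₀ ∈ S := hμ z₀ hz0
  have hmem : ∀ z, f z z₀ ≠ 0 → z ∈ S := by
    intro z hz
    obtain ⟨t, h1, h2⟩ := exists_iso_shift hf hz0 hz
    have h3 : z + t • z₀ ∈ S := by
      intro x
      rw [hμ _ h1 x, hother _ h1 (by rw [h2]; exact hz), hfix]
    simpa using S.sub_mem h3 (S.smul_mem t h0S)
  refine Submodule.eq_top_iff'.mpr fun z => ?_
  by_cases hz : f z z₀ = 0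
  · have h1 := hmem (z + z₁) (by rw [hs.add_left, hz, zero_add, h10]; exact one_ne_zero)
    simpa using S.sub_mem h1 (hmem z₁ (by rw [h10]; exact one_ne_zero))
  · exact hmem z hz

/-- A subgroup containing all isotropic transvections is irreducible. -/
theorem irreducible_of_unitTv [Finite F] (hf : IsUnitaryForm σ f) (hn : 4 ≤ Fintype.card ι)
    {M : Subgroup (GL ι F)} {c : F} (hc0 : c ≠ 0)
    (hseed : ∀ z, f z z = 0 → tv (c • z) (leftVec f z) ∈ M) : Irreducible M := by
  have hs := sesqForm_of_unitary hf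
  intro X hX
  by_contra hcon
  push Not at hcon
  have hmove : ∀ x ∈ X, ∀ z, f z z = 0 → f x z ≠ 0 → z ∈ X := by
    intro x hxX z hz hxz
    have h := hX _ (hseed z hz) x hxX
    rw [tv_mulVec (by rw [dotProduct_smul, hs.dot_leftVec, hz, smul_zero]), hs.dot_leftVec,
      smul_smul] at h
    have h' := X.sub_mem h hxX
    rw [add_sub_cancel_left] at h'
    rwa [X.smul_mem_iff (mul_ne_zero hxz hc0)] at h'
  obtain ⟨x, hxX, hx0⟩ := Submodule.exists_mem_ne_zero_of_ne_bot hcon.1
  obtain ⟨z₀, -, hz0, hz0x⟩ := exists_iso_not_orth' hf hn (u := 0) (v := x)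
    (hs.zero_right x) fun a ha => hx0 (by simpa using ha.symm)
  have hz0X : z₀ ∈ X := hmove x hxX z₀ hz0 (unitary_ne_symm hf hz0x)
  have hmem : ∀ w, f w z₀ ≠ 0 → w ∈ X := by
    intro w hw
    obtain ⟨t, h1, h2⟩ := exists_iso_shift hf hz0 hw
    have h3 := hmove z₀ hz0X _ h1 (unitary_ne_symm hf (h2.symm ▸ hw))
    simpa using X.sub_mem h3 (X.smul_mem t hz0X)
  have hz00 : z₀ ≠ 0 := fun h => hz0x (h ▸ hs.zero_left x)
  obtain ⟨w₀, hw₀⟩ := hs.exists_left_ne_zero hz00
  refine hcon.2 (Submodule.eq_top_iff'.mpr fun w => ?_)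
  by_cases hw : f w z₀ = 0
  · have h1 := hmem (w + w₀) (by rwa [hs.add_left, hw, zero_add])
    simpa using X.sub_mem h1 (hmem w₀ hw₀)
  · exact hmem w hw

/-- A subgroup containing the unitary similarities of determinant one and something else contains
`SL`. -/
theorem specialLinear_le_of_unitary [Finite F] (hf : IsUnitaryForm σ f)
    (hn : 4 ≤ Fintype.card ι) {M : Subgroup (GL ι F)}
    (hM : similarityGroup f ⊓ specialLinear ι F ≤ M) {g : GL ι F} (hg : g ∈ M)
    (hg' : g ∉ similarityGroup f) : specialLinear ι F ≤ M := by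
  have hs := sesqForm_of_unitary hf
  obtain ⟨c, hc0, hc⟩ := exists_traceZero hf.ne_refl hf.involutive
  have hseed : ∀ z, f z z = 0 → tv (c • z) (leftVec f z) ∈ M := fun z hz =>
    hM (unitTv_mem hf hz hc)
  obtain ⟨v, hvv, hv⟩ := exists_bad_iso hf hn hg'
  have hv0 : v ≠ 0 := by
    rintro rfl
    obtain ⟨x, hx⟩ := hv 1
    exact hx (by rw [mulVec_zero, hs.zero_right, hs.zero_right, mul_zero])
  obtain ⟨u, hu⟩ := hs.leftVec_surjective (leftVec f v ᵥ* ((g⁻¹ : GL ι F) : Matrix ι ι F))
  set v' := (g : Matrix ι ι F) *ᵥ v with hv'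
  have hv'0 : v' ≠ 0 := fun h => hv0 (by
    simpa [hv', mulVec_mulVec] using congrArg (fun y => ((g⁻¹ : GL ι F) : Matrix ι ι F) *ᵥ y) h)
  have hfu : ∀ x, f x u = f (((g⁻¹ : GL ι F) : Matrix ι ι F) *ᵥ x) v := by
    intro x; rw [← hs.dot_leftVec, hu, hs.dot_leftVec_conj]
  have hv'u : f v' u = 0 := by
    rw [hfu, hv', mulVec_mulVec, Units.inv_mul, one_mulVec, hvv]
  have hpair : tv (c • v') (leftVec f u) ∈ M := by
    have := tv_mem_conj hg (hseed v hvv)
    rwa [mulVec_smul, ← hu] at this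
  have hne : ∀ b : F, b • v' ≠ u := by
    intro b hb
    have hgx : ∀ x, σ b * f ((g : Matrix ι ι F) *ᵥ x) v' = f x v := by
      intro x
      have := hfu ((g : Matrix ι ι F) *ᵥ x)
      rwa [mulVec_mulVec, Units.inv_mul, one_mulVec, ← hb, hs.smul_right] at this
    obtain ⟨x, hx⟩ := hv (σ b)⁻¹
    rcases eq_or_ne b 0 with rfl | hb0
    · exact hv0 (hs.ext_right fun x => by rw [← hgx x]; simp [hs.zero_right])
    · refine hx ?_
      rw [← hgx x, ← mul_assoc, inv_mul_cancel₀ (by simp [hb0]), one_mul]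
  have hu0 : u ≠ 0 := fun h => hne 0 (by simp [h])
  have hne' : ∀ b : F, b • u ≠ v' := by
    intro b hb
    rcases eq_or_ne b 0 with rfl | hb0
    · exact hv'0 (by simpa using hb.symm)
    · exact hne b⁻¹ (by rw [← hb, inv_smul_smul₀ hb0])
  -- one root group
  obtain ⟨x₁, hx1u, hx1, hx1v⟩ := exists_iso_not_orth' hf hn hv'u hne'
  have hT : tv ((c * f v' x₁ * c) • x₁) (leftVec f u) ∈ M := by
    have := tv_rule_axis (by rw [dotProduct_smul, hs.dot_leftVec, hv'u, smul_zero])
      (by rw [dotProduct_smul, hs.dot_leftVec, hx1, smul_zero])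
      (by rw [dotProduct_smul, hs.dot_leftVec, hx1u, smul_zero]) hpair (hseed _ hx1)
    rwa [dotProduct_smul, hs.dot_leftVec, smul_eq_mul, tv_smul_right, smul_smul] at this
  have hx1ne : ∀ b : F, b • u ≠ x₁ := fun b hb => hx1v (by
    rw [← hb, hs.smul_left, unitary_orth_symm hf hv'u, mul_zero])
  obtain ⟨y, u, hyy, hu0, hyne, hRy⟩ := exists_rootIn_iso hf hn hc0 hc hseed hx1 hx1u hu0 hx1ne
    (mul_ne_zero (mul_ne_zero hc0 (unitary_ne_symm hf hx1v)) hc0) hT
  have hyu : f y u = 0 := by rw [← hs.dot_leftVec]; exact hRy.1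
  -- all centres for this axis
  have hstep : ∀ z, f z u = 0 → f z z = 0 → f y z ≠ 0 → z ∈ centres M (leftVec f u) := by
    intro z h1 h2 h3
    have hm := hseed z h2
    rw [← tv_smul_right] at hm
    exact hRy.rule_axis (by rw [smul_dotProduct, hs.dot_leftVec, h2, smul_zero]) hm
      (by rw [hs.dot_leftVec, h1]) (by
        rw [smul_dotProduct, hs.dot_leftVec, smul_eq_mul]; exact mul_ne_zero hc0 h3)
  obtain ⟨w, hwu, hwy⟩ := hs.exists_orth_not_orth hyne
  have hmem : ∀ z, f z u = 0 → f z y ≠ 0 → z ∈ centres M (leftVec f u) := by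
    intro z h1 h2
    obtain ⟨t, h3, h4⟩ := exists_iso_shift hf hyy h2
    have h5 := hstep _ (by rw [hs.add_left, hs.smul_left, h1, hyu]; ring) h3
      (unitary_ne_symm hf (h4.symm ▸ h2))
    simpa using (centres M (leftVec f u)).sub_mem h5
      ((centres M (leftVec f u)).smul_mem t (mem_centres.mpr hRy))
  refine specialLinear_le_of_fullAxis (irreducible_of_unitTv hf hn hc0 hseed)
    (hs.leftVec_ne_zero hu0) (fullAxis_of_centres fun z hz' => ?_)
  rw [hs.dot_leftVec] at hz'
  by_cases h2 : f z y = 0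
  · have h1 := hmem (z + w) (by rw [hs.add_left, hz', hwu, add_zero])
      (by rw [hs.add_left, h2, hwy, zero_add]; exact one_ne_zero)
    simpa using (centres M (leftVec f u)).sub_mem h1
      (hmem w hwu (by rw [hwy]; exact one_ne_zero))
  · exact hmem z hz' h2

/-- In dimension at least four the similarity group of a unitary form is maximal in `SL`. -/
theorem isMaximalIn_unitary [Finite F] (hf : IsUnitaryForm σ f) (hn : 4 ≤ Fintype.card ι) :
    IsMaximalIn (specialLinear ι F) (similarityGroup f ⊓ specialLinear ι F) := by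
  refine isMaximalIn_of inf_le_right ?_ fun M hHM hMK g hg hg' =>
    specialLinear_le_of_unitary hf hn hHM hg fun h => hg' ⟨h, hMK hg⟩
  obtain ⟨v, a, h⟩ := (sesqForm_of_unitary hf).exists_tv_not_similar (by omega)
  exact ⟨tv v a, tv_mem_specialLinear v a, fun h' => h h'.1⟩

end CfsgLib.SimilarityMax
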