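import Cfsg.Agent.MaxSub.QuadraticSimilarity

/-!
# Similarity groups of quadratic forms are maximal in `SL_n`, `n ≥ 6`, odd characteristic

As in `MaxSub.QuadraticSimilarity`. The isotropic root group is found from an element of `M` fixing a
singular vector `z` and the form `B(·, z)`; the conjugate of a Siegel element at `z` by a conjugate
Siegel element provides one.
-/

set_option autoImplicit false
set_option linter.unusedSectionVars false

namespace CfsgLib.SimilarityMax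

open Matrix Cfsg.Geo CfsgLib.MaxSub

variable {ι : Type} [Fintype ι] [DecidableEq ι] {F : Type*} [Field F] [Fintype F]
  {Q : (ι → F) → F}

local notation "B" => QuadraticMap.polar Q

/-- A totally orthogonal pair of subspaces has dimensions summing to at most the dimension. -/
theorem finrank_add_le (hQ : IsNondegenerateQuadraticForm Q) (K K' : Submodule F (ι → F))
    (horth : ∀ s ∈ K, ∀ t ∈ K', B t s = 0) :
    Module.finrank F K + Module.finrank F K' ≤ Fintype.card ι := by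
  have hs := sesqForm_of_quadratic hQ
  let b := Module.finBasis F K
  let L : (ι → F) →ₗ[F] (Fin (Module.finrank F K) → F) :=
    { toFun := fun x i => leftVec B (b i : ι → F) ⬝ᵥ x
      map_add' := fun x y => funext fun i => dotProduct_add _ x y
      map_smul' := fun c x => funext fun i => dotProduct_smul c _ x }
  have hker : K' ≤ LinearMap.ker L := fun t ht => funext fun i => by
    show leftVec B (b i : ι → F) ⬝ᵥ t = 0
    rw [leftVec_dot hQ]
    exact horth _ (b i).2 t ht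
  have hsurj : LinearMap.range L = ⊤ := by
    by_contra h
    obtain ⟨x, hx⟩ : ∃ x, x ∉ LinearMap.range L := by
      by_contra h'
      push Not at h'
      exact h (Submodule.eq_top_iff'.mpr h')
    obtain ⟨c, hc, hcx⟩ := exists_dot_of_notMem _ hx
    set k : ι → F := ∑ i, c i • (b i : ι → F) with hk
    have hk0 : k ≠ 0 := by
      intro h0
      have h1 := Fintype.linearIndependent_iff.mp
        (b.linearIndependent.map' K.subtype K.ker_subtype) c h0
      exact one_ne_zero (show (1 : F) = 0 by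
        rw [← hcx, show c = 0 from funext h1, zero_dotProduct])
    obtain ⟨y, hy⟩ := hs.exists_left_ne_zero hk0
    refine hy ?_
    have h2 := hc (L y) ⟨y, rfl⟩
    rw [dotProduct] at h2
    rw [hk, ← leftVec_dot hQ, ← h2]
    have hlv : ∀ (S : Finset (Fin (Module.finrank F K))),
        leftVec B (∑ i ∈ S, c i • (b i : ι → F)) ⬝ᵥ y = ∑ i ∈ S, c i * (L y) i := by
      intro S
      induction S using Finset.induction_on with
      | empty => rw [Finset.sum_empty, Finset.sum_empty, leftVec_dot hQ, hs.zero_right]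
      | insert a S ha ih =>
        rw [Finset.sum_insert ha, Finset.sum_insert ha, leftVec_dot hQ, hs.add_right, hs.smul_right,
          ← leftVec_dot hQ, ← leftVec_dot hQ, ih]
        rfl
    exact hlv _
  have h1 := L.finrank_range_add_finrank_ker
  rw [hsurj, finrank_top, Module.finrank_fin_fun, Module.finrank_fintype_fun_eq_card] at h1
  have h2 := Submodule.finrank_mono hker
  omega

/-- A singular vector in `u⊥` not orthogonal to `v ∉ F u`, in dimension at least six. -/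
theorem exists_singular_not_orth' (hQ : IsNondegenerateQuadraticForm Q)
    (hodd : Odd (Fintype.card F)) (hn : 6 ≤ Fintype.card ι) {u v : ι → F}
    (hne : ∀ c : F, c • u ≠ v) : ∃ z, B z u = 0 ∧ Q z = 0 ∧ B z v ≠ 0 := by
  have hs := sesqForm_of_quadratic hQ
  have h2' := two_ne_zero_of_odd hodd
  obtain ⟨w₀, hwu₀, hwv₀⟩ := hs.exists_orth_not_orth hne
  have hd := finrank_dotsKer ![leftVec B u, leftVec B v]
  obtain ⟨t₁, ht1, hQ1⟩ := exists_nonsingular hQ (dotsKer ![leftVec B u, leftVec B v]) (by omega)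
  have hd' := finrank_dotsKer ![leftVec B u, leftVec B v, leftVec B t₁]
  obtain ⟨t₂, ht2, hQ2⟩ : ∃ t ∈ dotsKer ![leftVec B u, leftVec B v, leftVec B t₁], Q t ≠ 0 := by
    by_contra hcon
    push Not at hcon
    set K := dotsKer ![leftVec B u, leftVec B v, leftVec B t₁] with hK
    have hKt : ∀ s ∈ K, B t₁ s = 0 := fun s hs' => by
      rw [polar_symm]
      have := (mem_dotsKer.mp hs') 2
      simpa [leftVec_dot hQ] using this
    have h0 : ∀ s ∈ K, ∀ t ∈ K, B t s = 0 := fun s hs' t ht => by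
      simp only [QuadraticMap.polar]
      rw [hcon _ hs', hcon _ ht, hcon _ (K.add_mem ht hs')]; ring
    have hlt : K < K ⊔ Submodule.span F {t₁} := by
      refine lt_of_le_of_ne le_sup_left fun h => ?_
      have : t₁ ∈ K := h ▸ Submodule.mem_sup_right (Submodule.mem_span_singleton_self t₁)
      exact hQ1 (hcon _ this)
    have h1 := finrank_add_le hQ K (K ⊔ Submodule.span F {t₁}) fun s hs' t ht => by
      obtain ⟨k, hk, l, hl, rfl⟩ := Submodule.mem_sup.mp ht
      obtain ⟨c, rfl⟩ := Submodule.mem_span_singleton.mp hl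
      rw [hs.add_left, hs.smul_left, h0 s hs' k hk, hKt s hs', mul_zero, add_zero]
    have := Submodule.finrank_lt_finrank_of_lt hlt
    omega
  rw [mem_dotsKer] at ht1 ht2
  have h1u : B t₁ u = 0 := by have := ht1 0; simpa [leftVec_dot hQ] using this
  have h1v : B t₁ v = 0 := by have := ht1 1; simpa [leftVec_dot hQ] using this
  have h2u : B t₂ u = 0 := by have := ht2 0; simpa [leftVec_dot hQ] using this
  have h2v : B t₂ v = 0 := by have := ht2 1; simpa [leftVec_dot hQ] using this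
  have h21 : B t₂ t₁ = 0 := by have := ht2 2; simpa [leftVec_dot hQ] using this
  have h12 : B t₁ t₂ = 0 := by rw [polar_symm]; exact h21
  have h11 : B t₁ t₁ ≠ 0 := by rw [polar_self hQ]; exact mul_ne_zero h2' hQ1
  have h22 : B t₂ t₂ ≠ 0 := by rw [polar_self hQ]; exact mul_ne_zero h2' hQ2
  set w := w₀ - (B w₀ t₁ / B t₁ t₁) • t₁ - (B w₀ t₂ / B t₂ t₂) • t₂ with hw
  have hwt1 : B w t₁ = 0 := by
    rw [hw, hs.sub_left, hs.sub_left, hs.smul_left, hs.smul_left, div_mul_cancel₀ _ h11, h21,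
      sub_self, mul_zero, sub_zero]
  have hwt2 : B w t₂ = 0 := by
    rw [hw, hs.sub_left, hs.sub_left, hs.smul_left, hs.smul_left, div_mul_cancel₀ _ h22, h12,
      mul_zero, sub_zero, sub_self]
  obtain ⟨x, y, hxy⟩ := exists_sq_add_sq hodd hQ1 hQ2 (- Q w)
  refine ⟨w + (x • t₁ + y • t₂), ?_, ?_, ?_⟩
  · rw [hw]
    simp only [hs.add_left, hs.sub_left, hs.smul_left, hwu₀, h1u, h2u]
    ring
  · rw [quad_add (Q := Q), quad_add (Q := Q), hQ.smul, hQ.smul, hs.smul_left, hs.smul_right, h12,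
      hs.add_right, hs.smul_right, hs.smul_right, hwt1, hwt2]
    linear_combination hxy
  · rw [hw]
    simp only [hs.add_left, hs.sub_left, hs.smul_left, hwv₀, h1v, h2v, mul_zero, sub_zero, add_zero]
    exact one_ne_zero

/-- A matrix rescaling `Q` by a constant that commutes with all Siegel transformations is a
similarity. -/
theorem quadSimilar_of_invariant (hQ : IsNondegenerateQuadraticForm Q)
    (hodd : Odd (Fintype.card F)) (hn : 5 ≤ Fintype.card ι) (g : GL ι F)
    (hinv : ∀ u w : ι → F, Q u = 0 → B w u = 0 → ∀ x,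
      Q ((g : Matrix ι ι F) *ᵥ ((sieg Q u w : Matrix ι ι F) *ᵥ x)) = Q ((g : Matrix ι ι F) *ᵥ x)) :
    g ∈ quadSimilarityGroup Q := by
  have hs := sesqForm_of_quadratic hQ
  have h2 := two_ne_zero_of_odd hodd
  set G : (ι → F) → (ι → F) → F :=
    fun x y => B ((g : Matrix ι ι F) *ᵥ x) ((g : Matrix ι ι F) *ᵥ y) with hG
  have hGinv : ∀ u w, Q u = 0 → B w u = 0 → ∀ x y,
      G ((sieg Q u w : Matrix ι ι F) *ᵥ x) ((sieg Q u w : Matrix ι ι F) *ᵥ y) = G x y := by
    intro u w hu huw x y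
    simp only [hG, QuadraticMap.polar, ← mulVec_add, hinv u w hu huw]
  have hGal : ∀ x y z, G (x + y) z = G x z + G y z := fun x y z => by
    simp only [hG, mulVec_add, hs.add_left]
  have hGsl : ∀ (c : F) x z, G (c • x) z = c * G x z := fun c x z => by
    simp only [hG, mulVec_smul, hs.smul_left]
  have hGsub : ∀ x y z, G (x - y) z = G x z - G y z := fun x y z => by
    simp only [hG, mulVec_sub, hs.sub_left]
  have key : ∀ u, Q u = 0 → u ≠ 0 → ∀ w, B w u = 0 → G w u = 0 := by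
    intro u hu hu0
    have huu : B u u = 0 := by rw [polar_self hQ, hu, mul_zero]
    have hfix : ∀ w, B w u = 0 → ∀ y, B y u * G w u - (B y w + Q w * B y u) * G u u = 0 := by
      intro w huw y
      have := hGinv u w hu huw y u
      rw [sieg_mulVec hQ hu huw, sieg_mulVec hQ hu huw, huu, polar_symm u w, huw] at this
      simp only [zero_smul, mul_zero, add_zero, sub_zero] at this
      rw [hGsub, hGal, hGsl, hGsl] at this
      linear_combination this
    obtain ⟨w, hwu, hwne⟩ : ∃ w, B w u = 0 ∧ w ∉ Submodule.span F {u} := by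
      by_contra hcon
      push Not at hcon
      have h1 : dotsKer ![leftVec B u] ≤ Submodule.span F {u} := fun w hw => hcon w (by
        have := (mem_dotsKer.mp hw) 0
        simpa [leftVec_dot hQ] using this)
      have h3 := Submodule.finrank_mono h1
      have h4 := finrank_dotsKer ![leftVec B u]
      rw [finrank_span_singleton hu0] at h3
      omega
    obtain ⟨y, hyu, hyw⟩ := hs.exists_orth_not_orth (u := u) (v := w)
      fun c hc => hwne (Submodule.mem_span_singleton.mpr ⟨c, hc⟩)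
    have huG : G u u = 0 := by
      have := hfix w hwu y
      rw [hyu, hyw] at this
      linear_combination -this
    intro w' hw'
    obtain ⟨y', hy'⟩ := hs.exists_left_ne_zero hu0
    have := hfix w' hw' y'
    rw [huG, mul_zero, sub_zero] at this
    exact (mul_eq_zero.mp this).resolve_left hy'
  -- the multiplier
  obtain ⟨z₀, -, hz00, hz0⟩ := exists_singular_mem hQ hodd ⊤
    (by rw [finrank_top, Module.finrank_pi]; omega)
  obtain ⟨x₀, hx₀⟩ := hs.exists_left_ne_zero hz00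
  have hprop : ∀ u, Q u = 0 → ∀ x₁, B x₁ u ≠ 0 → ∀ x, G x u = G x₁ u / B x₁ u * B x u := by
    intro u hu x₁ hx₁ x
    have hu0 : u ≠ 0 := fun h => hx₁ (h ▸ hs.zero_right x₁)
    have h0 : B (x - (B x u / B x₁ u) • x₁) u = 0 := by
      rw [hs.sub_left, hs.smul_left, div_mul_cancel₀ _ hx₁, sub_self]
    have := key u hu hu0 _ h0
    rw [hGsub, hGsl, sub_eq_zero] at this
    rw [this]; ring
  set μ := G x₀ z₀ / B x₀ z₀ with hμ
  have hμ0 : ∀ x, G x z₀ = μ * B x z₀ := hprop z₀ hz0 x₀ hx₀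
  have htop : hs.similarOn (g : Matrix ι ι F) μ = ⊤ := by
    set S := hs.similarOn (g : Matrix ι ι F) μ with hS
    have h0S : z₀ ∈ S := fun x => hμ0 x
    have hsing : ∀ z, Q z = 0 → B z z₀ ≠ 0 → z ∈ S := by
      intro z hz hne x
      have hne' : B z₀ z ≠ 0 := by rwa [polar_symm]
      have h1 := hprop z hz z₀ hne' x
      have h3 : G z₀ z = μ * B z₀ z := by
        have := hμ0 z
        simp only [hG] at this ⊢
        rw [polar_symm (Q := Q), this, polar_symm (Q := Q) z z₀]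
      rw [h3, mul_div_cancel_right₀ _ hne'] at h1
      exact h1
    have hmem : ∀ w, B w z₀ ≠ 0 → w ∈ S := by
      intro w hw
      set t := - Q w / B w z₀
      have h1 : Q (w + t • z₀) = 0 := by
        rw [quad_add (Q := Q), hQ.smul, hz0, hs.smul_right]
        simp only [RingEquiv.refl_apply, t]
        field_simp
        ring
      have h3 : B (w + t • z₀) z₀ ≠ 0 := by
        rwa [hs.add_left, hs.smul_left, polar_self hQ, hz0, mul_zero, mul_zero, add_zero]
      simpa using S.sub_mem (hsing _ h1 h3) (S.smul_mem t h0S)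
    refine Submodule.eq_top_iff'.mpr fun w => ?_
    by_cases hw : B w z₀ = 0
    · have h1 := hmem (w + x₀) (by rwa [hs.add_left, hw, zero_add])
      simpa using S.sub_mem h1 (hmem x₀ hx₀)
    · exact hmem w hw
  obtain ⟨c, hc⟩ := hs.mem_similarityGroup_of_similarOn g μ htop
  refine ⟨c, fun v => mul_left_cancel₀ h2 ?_⟩
  rw [← polar_self hQ, hc, polar_self hQ]; ring

/-- A subgroup containing the Siegel transformations of a subspace `u⊥` preserves only the trivial
subspaces of it. -/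
theorem le_of_sieg_invariant (hQ : IsNondegenerateQuadraticForm Q) (hodd : Odd (Fintype.card F))
    (hn6 : 6 ≤ Fintype.card ι) {u x : ι → F} (hxu : B x u = 0) (hx : ∀ c : F, c • u ≠ x)
    (X : Submodule F (ι → F)) (hxX : x ∈ X)
    (hX : ∀ z w, Q z = 0 → B z u = 0 → B w u = 0 → B w z = 0 →
      ∀ y ∈ X, (sieg Q z w : Matrix ι ι F) *ᵥ y ∈ X)
    (v : ι → F) (hv : B v u = 0) : v ∈ X := by
  have hs := sesqForm_of_quadratic hQ
  have h2 := two_ne_zero_of_odd hodd
  obtain ⟨z, hzu, hz, hzx⟩ := exists_singular_not_orth' hQ hodd hn6 hx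
  have hxz : B x z ≠ 0 := by rwa [polar_symm]
  have hboth : ∀ w, B w u = 0 → B w z = 0 →
      (Q w * B x z) • z ∈ X ∧ (B x z • w - B x w • z) ∈ X := by
    intro w hwu hwz
    have hp := X.sub_mem (hX z w hz hzu hwu hwz x hxX) hxX
    have hwz' : B (-w) z = 0 := by rw [hs.neg_left, hwz, neg_zero]
    have hm := X.sub_mem
      (hX z (-w) hz hzu (by rw [hs.neg_left, hwu, neg_zero]) hwz' x hxX) hxX
    rw [sieg_mulVec hQ hz hwz] at hp
    rw [sieg_mulVec hQ hz hwz', hs.neg_right] at hm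
    have hQn : Q (-w) = Q w := by rw [← neg_one_smul F w, hQ.smul]; ring
    rw [hQn] at hm
    refine ⟨?_, ?_⟩
    · have := X.smul_mem (-(2 : F)⁻¹) (X.add_mem hp hm)
      convert this using 1
      match_scalars <;> field_simp <;> ring
    · have := X.smul_mem (2 : F)⁻¹ (X.sub_mem hp hm)
      convert this using 1
      match_scalars <;> field_simp <;> ring
  obtain ⟨w₀, hw₀, hQw₀⟩ := dotsKer_not_orth hQ ![leftVec B u, leftVec B z] (by omega)
  rw [mem_dotsKer] at hw₀
  have hzX : z ∈ X := by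
    have h := (hboth w₀ (by have := hw₀ 0; simpa [leftVec_dot hQ] using this)
      (by have := hw₀ 1; simpa [leftVec_dot hQ] using this)).1
    rwa [X.smul_mem_iff (mul_ne_zero hQw₀ hxz)] at h
  have hperp : ∀ w, B w u = 0 → B w z = 0 → w ∈ X := by
    intro w hwu hwz
    have := X.add_mem (hboth w hwu hwz).2 (X.smul_mem (B x w) hzX)
    rw [sub_add_cancel, X.smul_mem_iff hxz] at this
    exact this
  have := hperp (v - (B v z / B x z) • x)
    (by rw [hs.sub_left, hs.smul_left, hv, hxu, mul_zero, sub_zero])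
    (by rw [hs.sub_left, hs.smul_left, div_mul_cancel₀ _ hxz, sub_self])
  simpa using X.add_mem this (X.smul_mem (B v z / B x z) hxX)

/-- A root group from an element fixing a singular vector and its form but changing `Q` on the
orthogonal of that vector. -/
theorem rootIn_of_change (hQ : IsNondegenerateQuadraticForm Q) (hodd : Odd (Fintype.card F))
    {M : Subgroup (GL ι F)} (hsM : ∀ u w, Q u = 0 → B w u = 0 → sieg Q u w ∈ M)
    {ρ : GL ι F} (hρM : ρ ∈ M) {u x₀ : ι → F} (hu : Q u = 0)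
    (hρu : (ρ : Matrix ι ι F) *ᵥ u = u)
    (hρB : ∀ y, B (((ρ⁻¹ : GL ι F) : Matrix ι ι F) *ᵥ y) u = B y u) (hxu : B x₀ u = 0)
    (hx₀ : Q (((ρ⁻¹ : GL ι F) : Matrix ι ι F) *ᵥ x₀) ≠ Q x₀) : RootIn M u (leftVec B u) := by
  have hs := sesqForm_of_quadratic hQ
  have h2 := two_ne_zero_of_odd hodd
  have hux : B u x₀ = 0 := by rwa [polar_symm]
  set x₀' := ((ρ⁻¹ : GL ι F) : Matrix ι ι F) *ᵥ x₀ with hx0'
  have hx'u : B x₀' u = 0 := by rw [hρB, hxu]
  set d := 2 * (Q x₀' - Q x₀) with hd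
  have hd0 : d ≠ 0 := mul_ne_zero h2 (sub_ne_zero.mpr hx₀)
  clear_value x₀' d
  refine ⟨by rw [leftVec_dot hQ, polar_self hQ, hu, mul_zero], fun c => ?_⟩
  obtain ⟨s₁, hs1def⟩ : ∃ s, s = sieg Q u ((c / d) • x₀) := ⟨_, rfl⟩
  obtain ⟨s₂, hs2def⟩ : ∃ s, s = ρ * sieg Q u x₀' * ρ⁻¹ := ⟨_, rfl⟩
  have hcu : B ((c / d) • x₀) u = 0 := by rw [hs.smul_left, hxu, mul_zero]
  have hs1 : s₁ ∈ M := hs1def ▸ hsM _ _ hu hcu
  have hs2 : s₂ ∈ M := hs2def ▸ M.mul_mem (M.mul_mem hρM (hsM _ _ hu hx'u)) (M.inv_mem hρM)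
  have key : s₁ * s₂ = tv (c • u) (leftVec B u) * (s₂ * s₁) := by
    refine gl_ext fun x => ?_
    have hB1 : ∀ x, (s₁ : Matrix ι ι F) *ᵥ x = x + B x u • ((c / d) • x₀) -
        ((c / d) * B x x₀ + (c / d) ^ 2 * Q x₀ * B x u) • u := by
      intro x
      rw [hs1def, sieg_mulVec hQ hu hcu, hs.smul_right, hQ.smul]
      rfl
    have hB2 : ∀ x, (s₂ : Matrix ι ι F) *ᵥ x = x + B x u • x₀ -
        (B (((ρ⁻¹ : GL ι F) : Matrix ι ι F) *ᵥ x) x₀' + Q x₀' * B x u) • u := by
      intro x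
      have h := sieg_mulVec hQ hu hx'u (((ρ⁻¹ : GL ι F) : Matrix ι ι F) *ᵥ x)
      rw [hρB] at h
      rw [hs2def, Units.val_mul, Units.val_mul, ← mulVec_mulVec, ← mulVec_mulVec, h, mulVec_sub,
        mulVec_add, mulVec_smul, mulVec_smul, mulVec_mulVec, Units.mul_inv, one_mulVec, hx0',
        mulVec_mulVec, Units.mul_inv, one_mulVec, hρu]
    have huu : B u u = 0 := by rw [polar_self hQ, hu, mul_zero]
    have hρ'u : ((ρ⁻¹ : GL ι F) : Matrix ι ι F) *ᵥ u = u := by
      conv_lhs => rw [← hρu]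
      rw [mulVec_mulVec, Units.inv_mul, one_mulVec]
    rw [Units.val_mul, Units.val_mul, Units.val_mul, ← mulVec_mulVec, ← mulVec_mulVec,
      ← mulVec_mulVec, tv_mulVec (by rw [leftVec_dot hQ, hs.smul_left, huu, mul_zero]),
      leftVec_dot hQ]
    simp only [hB1, hB2, hs.sub_left, hs.add_left, hs.smul_left,
      mulVec_sub, mulVec_add, mulVec_smul, hρ'u, ← hx0', polar_symm u x₀', hx'u, hxu, hux, huu,
      polar_self hQ x₀, polar_self hQ x₀']
    match_scalars
    all_goals first | ring1 | linear_combination -(B x u * c * d⁻¹) * hd + (B x u * c) * inv_mul_cancel₀ hd0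
  have : tv (c • u) (leftVec B u) = s₁ * s₂ * (s₂ * s₁)⁻¹ := by rw [key, mul_inv_cancel_right]
  rw [this]
  exact M.mul_mem (M.mul_mem hs1 hs2) (M.inv_mem (M.mul_mem hs2 hs1))


/-- A root group from an element fixing a singular vector and its form which is no similarity. -/
theorem exists_rootIn_of_fixing (hQ : IsNondegenerateQuadraticForm Q) (hodd : Odd (Fintype.card F))
    (hn : 6 ≤ Fintype.card ι) {M : Subgroup (GL ι F)}
    (hM : quadSimilarityGroup Q ⊓ specialLinear ι F ≤ M) {ρ : GL ι F} (hρM : ρ ∈ M)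
    (hρSL : ρ ∈ specialLinear ι F) (hρ : ρ ∉ quadSimilarityGroup Q) {z : ι → F} (hz : Q z = 0)
    (hz0 : z ≠ 0) (hρz : (ρ : Matrix ι ι F) *ᵥ z = z)
    (hρB : ∀ y, B (((ρ⁻¹ : GL ι F) : Matrix ι ι F) *ᵥ y) z = B y z) :
    ∃ u, Q u = 0 ∧ u ≠ 0 ∧ RootIn M u (leftVec B u) := by
  have hs := sesqForm_of_quadratic hQ
  have hsM : ∀ u w, Q u = 0 → B w u = 0 → sieg Q u w ∈ M := fun u w hu huw =>
    hM (sieg_mem hQ hu huw)
  by_cases hA : ∃ x₀, B x₀ z = 0 ∧ Q (((ρ⁻¹ : GL ι F) : Matrix ι ι F) *ᵥ x₀) ≠ Q x₀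
  · obtain ⟨x₀, h1, h2⟩ := hA
    exact ⟨z, hz, hz0, rootIn_of_change hQ hodd hsM hρM hz hρz hρB h1 h2⟩
  push Not at hA
  have hzz : B z z = 0 := by rw [polar_self hQ, hz, mul_zero]
  have hzdot : leftVec B z ⬝ᵥ z = 0 := by rw [leftVec_dot hQ, hzz]
  have hcz : ∀ c : F, leftVec B z ⬝ᵥ (c • z) = 0 := fun c => by
    rw [dotProduct_smul, hzdot, smul_zero]
  set R := ((ρ⁻¹ : GL ι F) : Matrix ι ι F) with hR
  obtain ⟨y₁, hy₁⟩ := hs.exists_left_ne_zero hz0
  set y₀ := (B y₁ z)⁻¹ • y₁ with hy₀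
  have hy₀z : B y₀ z = 1 := by rw [hy₀, hs.smul_left, inv_mul_cancel₀ hy₁]
  clear_value y₀
  -- the defect of `ρ` between `z⊥` and everything
  have hdefect : ∀ x, B x z = 0 → ∀ y,
      B (R *ᵥ y) (R *ᵥ x) - B y x = (B (R *ᵥ y₀) (R *ᵥ x) - B y₀ x) * B y z := by
    intro x hx y
    have hd : ∀ v, B v z = 0 → B (R *ᵥ v) (R *ᵥ x) = B v x := by
      intro v hv
      simp only [QuadraticMap.polar, ← mulVec_add]
      rw [hA _ hv, hA _ hx, hA _ (by rw [hs.add_left, hv, hx, add_zero])]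
    have := hd (y - B y z • y₀) (by rw [hs.sub_left, hs.smul_left, hy₀z, mul_one, sub_self])
    rw [mulVec_sub, mulVec_smul, hs.sub_left, hs.smul_left, hs.sub_left, hs.smul_left] at this
    linear_combination this
  by_cases hB : ∃ x, B x z = 0 ∧ B (R *ᵥ y₀) (R *ᵥ x) ≠ B y₀ x
  · -- the commutator with a Siegel element is a transvection
    obtain ⟨x, hx, hxne⟩ := hB
    refine ⟨z, hz, hz0, hzdot, fun c => ?_⟩
    set k := B (R *ᵥ y₀) (R *ᵥ x) - B y₀ x with hk
    have hk0 : k ≠ 0 := sub_ne_zero.mpr hxne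
    obtain ⟨x', hx'⟩ : ∃ x', x' = (-c / k) • x := ⟨_, rfl⟩
    have hx'z : B x' z = 0 := by rw [hx', hs.smul_left, hx, mul_zero]
    have hRx'z : B (R *ᵥ x') z = 0 := by rw [hR, hρB, hx'z]
    obtain ⟨s, hsdef⟩ : ∃ s, s = sieg Q z x' := ⟨_, rfl⟩
    obtain ⟨t, htdef⟩ : ∃ t, t = ρ * sieg Q z (R *ᵥ x') * ρ⁻¹ := ⟨_, rfl⟩
    have hsm : s ∈ M := hsdef ▸ hsM _ _ hz hx'z
    have htm : t ∈ M := htdef ▸ M.mul_mem (M.mul_mem hρM (hsM _ _ hz hRx'z)) (M.inv_mem hρM)
    have hkey : t = tv (c • z) (leftVec B z) * s := by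
      refine gl_ext fun y => ?_
      rw [htdef, hsdef, Units.val_mul, Units.val_mul, Units.val_mul, ← mulVec_mulVec, ← mulVec_mulVec,
        ← mulVec_mulVec, ← hR, sieg_mulVec hQ hz hRx'z, sieg_mulVec hQ hz hx'z, hR, hρB, tv_mulVec (hcz c),
        leftVec_dot hQ, mulVec_sub, mulVec_add, mulVec_smul, mulVec_smul, hρz, ← hR, hA x' hx'z,
        mulVec_mulVec, mulVec_mulVec, hR, Units.mul_inv, one_mulVec, one_mulVec]
      simp only [hs.sub_left, hs.add_left, hs.smul_left, hzz, hx'z, mul_zero, add_zero, sub_zero, ← hR]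
      have hd := hdefect x' hx'z y
      rw [hx', mulVec_smul, hs.smul_right, hs.smul_right, hs.smul_right, hs.smul_right] at hd
      simp only [RingEquiv.refl_apply] at hd
      rw [hx', mulVec_smul, hs.smul_right, hs.smul_right]
      simp only [RingEquiv.refl_apply]
      match_scalars
      all_goals first | ring1 | (field_simp at hd ⊢; linear_combination -hd)
    have : tv (c • z) (leftVec B z) = t * s⁻¹ := by rw [hkey, mul_inv_cancel_right]
    rw [this]
    exact M.mul_mem htm (M.inv_mem hsm)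
  push Not at hB
  -- `ρ` is an isometry times a transvection
  set e := Q ((ρ : Matrix ι ι F) *ᵥ y₀) - Q y₀ with he
  have hρB' : ∀ y, B ((ρ : Matrix ι ι F) *ᵥ y) z = B y z := fun y => by
    have := hρB ((ρ : Matrix ι ι F) *ᵥ y)
    rw [mulVec_mulVec, Units.inv_mul, one_mulVec] at this
    exact this.symm
  have hQperp : ∀ v, B v z = 0 → Q ((ρ : Matrix ι ι F) *ᵥ v) = Q v := fun v hv => by
    have := hA ((ρ : Matrix ι ι F) *ᵥ v) (by rw [hρB', hv])
    rw [hR, mulVec_mulVec, Units.inv_mul, one_mulVec] at this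
    exact this.symm
  have hBperp : ∀ v, B v z = 0 → B ((ρ : Matrix ι ι F) *ᵥ y₀) ((ρ : Matrix ι ι F) *ᵥ v) = B y₀ v := by
    intro v hv
    have hv' : B ((ρ : Matrix ι ι F) *ᵥ v) z = 0 := by rw [hρB', hv]
    have := hdefect _ hv' ((ρ : Matrix ι ι F) *ᵥ y₀)
    rw [hB _ hv', sub_self, zero_mul, sub_eq_zero, hR, mulVec_mulVec, mulVec_mulVec, Units.inv_mul,
      one_mulVec, one_mulVec] at this
    exact this.symm
  have hQρ : ∀ y, Q ((ρ : Matrix ι ι F) *ᵥ y) = Q y + e * (B y z * B y z) := by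
    intro y
    obtain ⟨v, hv, hy⟩ : ∃ v, B v z = 0 ∧ B y z • y₀ + v = y :=
      ⟨y - B y z • y₀, by rw [hs.sub_left, hs.smul_left, hy₀z, mul_one, sub_self], by abel⟩
    generalize B y z = c at hy ⊢
    subst hy
    rw [mulVec_add, mulVec_smul, quad_add (Q := Q), hQ.smul, hQperp v hv, hs.smul_left, hBperp v hv,
      quad_add (Q := Q), hQ.smul, hs.smul_left, he]
    ring
  set T := tv (e • z) (leftVec B z) with hT
  have hTM : T ∈ M := by
    have hiso : T⁻¹ * ρ ∈ quadSimilarityGroup Q ⊓ specialLinear ι F := by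
      refine ⟨⟨1, fun y => ?_⟩, Subgroup.mul_mem _ (Subgroup.inv_mem _ (tv_mem_specialLinear _ _)) hρSL⟩
      rw [Units.val_mul, ← mulVec_mulVec, hT, tv_inv, tv_mulVec (by rw [dotProduct_neg, hcz, neg_zero]),
        leftVec_dot hQ, hρB', quad_add (Q := Q), hQρ, smul_neg, smul_smul, ← neg_smul, hQ.smul, hz,
        hs.smul_right, hρB', Units.val_one]
      simp only [RingEquiv.refl_apply]
      ring
    have := M.mul_mem hρM (M.inv_mem (hM hiso))
    have hc : T⁻¹ * ρ ∈ M := hM hiso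
    have h3 := M.mul_mem hρM (M.inv_mem hc)
    rw [_root_.mul_inv_rev, inv_inv, ← mul_assoc, mul_inv_cancel, one_mul] at h3
    exact h3
  have he0 : e ≠ 0 := by
    intro h0
    exact hρ ⟨1, fun y => by rw [hQρ, h0, zero_mul, add_zero, Units.val_one, one_mul]⟩
  -- a second singular vector
  obtain ⟨a, ha⟩ := exists_dot_eq_one hz0
  obtain ⟨z₂, hz₂, hz20, hQz₂⟩ := exists_singular_mem hQ hodd (dotsKer ![leftVec B z, a])
    (by have := finrank_dotsKer ![leftVec B z, a]; omega)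
  rw [mem_dotsKer] at hz₂
  have hz2z : B z₂ z = 0 := by have := hz₂ 0; simpa [leftVec_dot hQ] using this
  have ha2 : a ⬝ᵥ z₂ = 0 := by have := hz₂ 1; simpa using this
  obtain ⟨x₀, hx2, hx0z⟩ := hs.exists_orth_not_orth (u := z₂) (v := z) fun c hc => by
    have := congrArg (a ⬝ᵥ ·) hc
    simp [dotProduct_smul, ha2, ha] at this
  have hTinv : ∀ y, ((T⁻¹ : GL ι F) : Matrix ι ι F) *ᵥ y = y + (-(e * B y z)) • z := fun y => by
    rw [hT, tv_inv, tv_mulVec (by rw [dotProduct_neg, hcz, neg_zero]), leftVec_dot hQ, smul_neg, smul_smul,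
      ← neg_smul, mul_comm]
  refine ⟨z₂, hQz₂, hz20, rootIn_of_change hQ hodd hsM (ρ := T) (x₀ := x₀) hTM hQz₂ ?_ (fun y => ?_) hx2 ?_⟩
  · rw [hT, tv_mulVec (hcz e), leftVec_dot hQ, hz2z, zero_smul, add_zero]
  · rw [hTinv, hs.add_left, hs.smul_left, polar_symm z z₂, hz2z, mul_zero, add_zero]
  · rw [hTinv, quad_add (Q := Q), hQ.smul, hz, hs.smul_right, hx0z]
    simp only [RingEquiv.refl_apply]
    intro h
    exact he0 (by linear_combination -h)

/-- A subgroup with a non-orthogonal conjugate Siegel element contains an isotropic root group. -/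
theorem exists_rootIn_singular (hQ : IsNondegenerateQuadraticForm Q)
    (hodd : Odd (Fintype.card F)) (hn : 6 ≤ Fintype.card ι) {M : Subgroup (GL ι F)}
    (hM : quadSimilarityGroup Q ⊓ specialLinear ι F ≤ M) {g : GL ι F} (hg : g ∈ M)
    (hg' : g ∉ quadSimilarityGroup Q) :
    ∃ u, Q u = 0 ∧ u ≠ 0 ∧ RootIn M u (leftVec B u) := by
  have hs := sesqForm_of_quadratic hQ
  have hsM : ∀ u w, Q u = 0 → B w u = 0 → sieg Q u w ∈ M := fun u w hu huw =>
    hM (sieg_mem hQ hu huw)
  have hSLn : (specialLinear ι F).Normal := MonoidHom.normal_ker _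
  obtain ⟨u₁, w₁, hu₁, huw₁, hρ⟩ : ∃ u₁ w₁, Q u₁ = 0 ∧ B w₁ u₁ = 0 ∧
      g * sieg Q u₁ w₁ * g⁻¹ ∉ quadSimilarityGroup Q := by
    by_contra hcon
    push Not at hcon
    refine hg' (quadSimilar_of_invariant hQ hodd (by omega) g fun u w hu huw x => ?_)
    obtain ⟨c, hc⟩ := hcon u w hu huw
    have happ : ∀ y, ((g * sieg Q u w * g⁻¹ : GL ι F) : Matrix ι ι F) *ᵥ
        ((g : Matrix ι ι F) *ᵥ y) =
        (g : Matrix ι ι F) *ᵥ ((sieg Q u w : Matrix ι ι F) *ᵥ y) := by
      intro y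
      simp [mulVec_mulVec, mul_assoc]
    obtain ⟨t, ht, hQt⟩ := dotsKer_not_orth hQ
      ![leftVec B u ᵥ* ((g⁻¹ : GL ι F) : Matrix ι ι F),
        leftVec B w ᵥ* ((g⁻¹ : GL ι F) : Matrix ι ι F)] (by omega)
    rw [mem_dotsKer] at ht
    have htu : B (((g⁻¹ : GL ι F) : Matrix ι ι F) *ᵥ t) u = 0 := by
      rw [← hs.dot_leftVec_conj]; simpa using ht 0
    have htw : B (((g⁻¹ : GL ι F) : Matrix ι ι F) *ᵥ t) w = 0 := by
      rw [← hs.dot_leftVec_conj]; simpa using ht 1
    have hc1 : (c : F) = 1 := by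
      have := hc t
      rw [show ((g * sieg Q u w * g⁻¹ : GL ι F) : Matrix ι ι F) *ᵥ t = t by
        have h := happ (((g⁻¹ : GL ι F) : Matrix ι ι F) *ᵥ t)
        rw [sieg_mulVec hQ hu huw, htu, htw] at h
        simpa [mulVec_mulVec, mul_assoc] using h] at this
      exact (mul_eq_right₀ hQt).mp this.symm
    rw [← happ, hc, hc1, one_mul]
  set ρ := g * sieg Q u₁ w₁ * g⁻¹ with hρdef
  have hρM : ρ ∈ M := M.mul_mem (M.mul_mem hg (hsM _ _ hu₁ huw₁)) (M.inv_mem hg)
  have hρSL : ρ ∈ specialLinear ι F := hSLn.conj_mem _ (sieg_mem hQ hu₁ huw₁).2 g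
  set P := (g : Matrix ι ι F) *ᵥ u₁ with hP
  set R := (g : Matrix ι ι F) *ᵥ w₁ with hR
  obtain ⟨z, hzN, hz0, hz⟩ := exists_singular_mem hQ hodd
    (dotsKer ![leftVec B u₁ ᵥ* ((g⁻¹ : GL ι F) : Matrix ι ι F),
      leftVec B w₁ ᵥ* ((g⁻¹ : GL ι F) : Matrix ι ι F)])
    (by
      have := finrank_dotsKer ![leftVec B u₁ ᵥ* ((g⁻¹ : GL ι F) : Matrix ι ι F),
        leftVec B w₁ ᵥ* ((g⁻¹ : GL ι F) : Matrix ι ι F)]
      omega)
  rw [mem_dotsKer] at hzN
  have hz1 : B (((g⁻¹ : GL ι F) : Matrix ι ι F) *ᵥ z) u₁ = 0 := by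
    rw [← hs.dot_leftVec_conj]; simpa using hzN 0
  have hz2 : B (((g⁻¹ : GL ι F) : Matrix ι ι F) *ᵥ z) w₁ = 0 := by
    rw [← hs.dot_leftVec_conj]; simpa using hzN 1
  have hact : ∀ r, (ρ : Matrix ι ι F) *ᵥ r = r + B (((g⁻¹ : GL ι F) : Matrix ι ι F) *ᵥ r) u₁ • R -
      (B (((g⁻¹ : GL ι F) : Matrix ι ι F) *ᵥ r) w₁ +
        Q w₁ * B (((g⁻¹ : GL ι F) : Matrix ι ι F) *ᵥ r) u₁) • P := by
    intro r
    rw [hρdef, Units.val_mul, Units.val_mul, ← mulVec_mulVec, ← mulVec_mulVec,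
      sieg_mulVec hQ hu₁ huw₁, mulVec_sub, mulVec_add, mulVec_smul, mulVec_smul, mulVec_mulVec,
      Units.mul_inv, one_mulVec]
  have hρz : (ρ : Matrix ι ι F) *ᵥ z = z := by
    rw [hact, hz1, hz2]; simp
  -- `ρ` fixes `P` and moves `R` by a multiple of `P`
  have hgP : ((g⁻¹ : GL ι F) : Matrix ι ι F) *ᵥ P = u₁ := by
    rw [hP, mulVec_mulVec, Units.inv_mul, one_mulVec]
  have hgR : ((g⁻¹ : GL ι F) : Matrix ι ι F) *ᵥ R = w₁ := by
    rw [hR, mulVec_mulVec, Units.inv_mul, one_mulVec]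
  by_cases hfixB : ∀ y, B (((ρ⁻¹ : GL ι F) : Matrix ι ι F) *ᵥ y) z = B y z
  · exact exists_rootIn_of_fixing hQ hodd hn hM hρM hρSL hρ hz hz0 hρz hfixB
  have hinj : ∀ x, ((ρ⁻¹ : GL ι F) : Matrix ι ι F) *ᵥ ((ρ : Matrix ι ι F) *ᵥ x) = x := fun x => by
    rw [mulVec_mulVec, Units.inv_mul, one_mulVec]
  have hinj' : ∀ x, (ρ : Matrix ι ι F) *ᵥ (((ρ⁻¹ : GL ι F) : Matrix ι ι F) *ᵥ x) = x := fun x => by
    rw [mulVec_mulVec, Units.mul_inv, one_mulVec]
  -- conjugated Siegel elements at `z`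
  obtain ⟨x, hxX, hxz0⟩ : ∃ x ∈ dotsKer ![leftVec B z, leftVec B z ᵥ* (ρ : Matrix ι ι F)],
      x ∉ Submodule.span F {z} := by
    by_contra hcon
    push Not at hcon
    have h1 := Submodule.finrank_mono
      (hcon : dotsKer ![leftVec B z, leftVec B z ᵥ* (ρ : Matrix ι ι F)] ≤ Submodule.span F {z})
    have h3 := finrank_dotsKer ![leftVec B z, leftVec B z ᵥ* (ρ : Matrix ι ι F)]
    rw [finrank_span_singleton hz0] at h1
    omega
  rw [mem_dotsKer] at hxX
  have hxz : B x z = 0 := by have := hxX 0; simpa [leftVec_dot hQ] using this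
  have hρxz : B ((ρ : Matrix ι ι F) *ᵥ x) z = 0 := by
    rw [← leftVec_dot hQ, dotProduct_mulVec]; simpa using hxX 1
  set ρ₂ := ρ * sieg Q z x * ρ⁻¹ with hρ₂def
  have hact₂ : ∀ y, (ρ₂ : Matrix ι ι F) *ᵥ y
      = y + B (((ρ⁻¹ : GL ι F) : Matrix ι ι F) *ᵥ y) z • ((ρ : Matrix ι ι F) *ᵥ x) -
        (B (((ρ⁻¹ : GL ι F) : Matrix ι ι F) *ᵥ y) x +
          Q x * B (((ρ⁻¹ : GL ι F) : Matrix ι ι F) *ᵥ y) z) • z := by
    intro y
    rw [hρ₂def, Units.val_mul, Units.val_mul, ← mulVec_mulVec, ← mulVec_mulVec,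
      sieg_mulVec hQ hz hxz, mulVec_sub, mulVec_add, mulVec_smul, mulVec_smul, hρz, hinj']
  have hzz : B z z = 0 := by rw [polar_self hQ, hz, mul_zero]
  have hρ₂B : ∀ y, B ((ρ₂ : Matrix ι ι F) *ᵥ y) z = B y z := fun y => by
    rw [hact₂, hs.sub_left, hs.add_left, hs.smul_left, hs.smul_left, hρxz, hzz]; ring
  have hρzi : ((ρ⁻¹ : GL ι F) : Matrix ι ι F) *ᵥ z = z := by
    conv_lhs => rw [← hρz]
    rw [hinj]
  refine exists_rootIn_of_fixing hQ hodd hn hM (ρ := ρ₂)
    (M.mul_mem (M.mul_mem hρM (hsM _ _ hz hxz)) (M.inv_mem hρM))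
    (hSLn.conj_mem _ (sieg_mem hQ hz hxz).2 ρ) ?_ hz hz0 ?_ (fun y => ?_)
  swap
  · rw [hact₂, hρzi, hzz, polar_symm z x, hxz]; simp
  swap
  · have := hρ₂B (((ρ₂⁻¹ : GL ι F) : Matrix ι ι F) *ᵥ y)
    rw [mulVec_mulVec, Units.mul_inv, one_mulVec] at this
    exact this.symm
  -- `ρ₂` is no similarity
  rintro ⟨c, hc⟩
  obtain ⟨y₁, hy₁⟩ := not_forall.mp hfixB
  -- the two functionals are independent
  obtain ⟨v, hv, hvz⟩ : ∃ v, B (((ρ⁻¹ : GL ι F) : Matrix ι ι F) *ᵥ v) z = 0 ∧ B v z ≠ 0 := by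
    by_contra hcon
    push Not at hcon
    have hyz : ∀ y, B (((ρ⁻¹ : GL ι F) : Matrix ι ι F) *ᵥ y) z = 0 → B y z = 0 := hcon
    obtain ⟨w₀, hw₀⟩ := hs.exists_left_ne_zero hz0
    have hprop : ∀ y, B y z
        = B ((ρ : Matrix ι ι F) *ᵥ w₀) z / B w₀ z * B (((ρ⁻¹ : GL ι F) : Matrix ι ι F) *ᵥ y) z := by
      intro y
      set l := B (((ρ⁻¹ : GL ι F) : Matrix ι ι F) *ᵥ y) z / B w₀ z
      have := hyz (y - l • ((ρ : Matrix ι ι F) *ᵥ w₀)) (by
        rw [mulVec_sub, mulVec_smul, hinj, hs.sub_left, hs.smul_left, div_mul_cancel₀ _ hw₀, sub_self])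
      rw [hs.sub_left, hs.smul_left, sub_eq_zero] at this
      rw [this]; simp only [l]; ring
    set μ := B ((ρ : Matrix ι ι F) *ᵥ w₀) z / B w₀ z
    have hρy : ∀ y, B ((ρ : Matrix ι ι F) *ᵥ y) z = μ * B y z := fun y => by
      rw [hprop, hinj]
    rcases eq_or_ne μ 1 with hμ | hμ
    · exact hy₁ (by rw [hprop y₁, hμ, one_mul])
    have hPz : B P z = 0 := by
      have h := hρy P
      rw [hact, hgP, polar_self hQ, hu₁, mul_zero, polar_symm u₁ w₁, huw₁] at h
      simp only [zero_smul, add_zero, mul_zero, sub_zero] at h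
      exact ((mul_eq_zero.mp (show (1 - μ) * B P z = 0 by linear_combination h)).resolve_left
        (sub_ne_zero.mpr (Ne.symm hμ)))
    have hRz : B R z = 0 := by
      have h := hρy R
      rw [hact, hgR, huw₁] at h
      simp only [zero_smul, add_zero, hs.sub_left, hs.smul_left, hPz, mul_zero, sub_zero] at h
      exact ((mul_eq_zero.mp (show (1 - μ) * B R z = 0 by linear_combination h)).resolve_left
        (sub_ne_zero.mpr (Ne.symm hμ)))
    obtain ⟨w₁', hw₁'⟩ := hs.exists_left_ne_zero hz0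
    have h := hρy w₁'
    rw [hact, hs.sub_left, hs.add_left, hs.smul_left, hs.smul_left, hPz, hRz, mul_zero, mul_zero,
      add_zero, sub_zero] at h
    exact sub_ne_zero.mpr hμ ((mul_eq_zero.mp (show (μ - 1) * B w₁' z = 0 by
      linear_combination -h)).resolve_right hw₁')
  -- the multiplier is one
  have hc1 : (c : F) = 1 := by
    obtain ⟨t, ht, hQt⟩ := exists_nonsingular hQ
      (dotsKer ![leftVec B z ᵥ* ((ρ⁻¹ : GL ι F) : Matrix ι ι F),
        leftVec B x ᵥ* ((ρ⁻¹ : GL ι F) : Matrix ι ι F)]) (by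
      have := finrank_dotsKer ![leftVec B z ᵥ* ((ρ⁻¹ : GL ι F) : Matrix ι ι F),
        leftVec B x ᵥ* ((ρ⁻¹ : GL ι F) : Matrix ι ι F)]
      omega)
    rw [mem_dotsKer] at ht
    have ht1 : B (((ρ⁻¹ : GL ι F) : Matrix ι ι F) *ᵥ t) z = 0 := by
      rw [← hs.dot_leftVec_conj]; simpa using ht 0
    have ht2 : B (((ρ⁻¹ : GL ι F) : Matrix ι ι F) *ᵥ t) x = 0 := by
      rw [← hs.dot_leftVec_conj]; simpa using ht 1
    have := hc t
    rw [hact₂, ht1, ht2] at this
    simp only [zero_smul, mul_zero, add_zero, sub_zero] at this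
    exact (mul_eq_right₀ hQt).mp this.symm
  have hzero : ∀ y, B (((ρ⁻¹ : GL ι F) : Matrix ι ι F) *ᵥ y) z = 0 →
      B (((ρ⁻¹ : GL ι F) : Matrix ι ι F) *ᵥ y) x * B y z = 0 := by
    intro y hy
    have := hc y
    rw [hact₂, hy, hc1, one_mul, zero_smul, add_zero, mul_zero, add_zero, sub_eq_add_neg, ← neg_smul,
      quad_add (Q := Q), hQ.smul, hz, hs.smul_right] at this
    simp only [RingEquiv.refl_apply] at this
    linear_combination -this
  refine hxz0 ?_
  have hall : ∀ w, B w z = 0 → B w x = 0 := by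
    intro w hw
    set y := (ρ : Matrix ι ι F) *ᵥ w with hy
    have hyi : ((ρ⁻¹ : GL ι F) : Matrix ι ι F) *ᵥ y = w := hinj w
    have hvx : B (((ρ⁻¹ : GL ι F) : Matrix ι ι F) *ᵥ v) x = 0 :=
      (mul_eq_zero.mp (hzero v hv)).resolve_right hvz
    by_cases hyz : B y z = 0
    · have := hzero (y + v) (by rw [mulVec_add, hyi, hs.add_left, hw, hv, add_zero])
      rw [mulVec_add, hyi, hs.add_left, hs.add_left, hvx, hyz, zero_add, add_zero] at this
      exact (mul_eq_zero.mp this).resolve_right hvz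
    · have := hzero y (by rw [hyi, hw])
      rw [hyi] at this
      exact (mul_eq_zero.mp this).resolve_right hyz
  obtain ⟨w₀, hw₀⟩ := hs.exists_left_ne_zero hz0
  rw [Submodule.mem_span_singleton]
  refine ⟨B w₀ x / B w₀ z, (sub_eq_zero.mp ?_).symm⟩
  by_contra hne
  obtain ⟨w, hw⟩ := hs.exists_left_ne_zero hne
  refine hw ?_
  rw [hs.sub_right, hs.smul_right]
  simp only [RingEquiv.refl_apply]
  have := hall (w - (B w z / B w₀ z) • w₀) (by
    rw [hs.sub_left, hs.smul_left, div_mul_cancel₀ _ hw₀, sub_self])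
  rw [hs.sub_left, hs.smul_left] at this
  linear_combination this

/-- A subgroup containing the quadratic similarities of determinant one and something else contains
`SL`. -/
theorem specialLinear_le_of_quadratic (hQ : IsNondegenerateQuadraticForm Q)
    (hodd : Odd (Fintype.card F)) (hn : 6 ≤ Fintype.card ι) {M : Subgroup (GL ι F)}
    (hM : quadSimilarityGroup Q ⊓ specialLinear ι F ≤ M) {g : GL ι F} (hg : g ∈ M)
    (hg' : g ∉ quadSimilarityGroup Q) : specialLinear ι F ≤ M := by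
  have hs := sesqForm_of_quadratic hQ
  have h2 := two_ne_zero_of_odd hodd
  have hsM : ∀ u w, Q u = 0 → B w u = 0 → sieg Q u w ∈ M := fun u w hu huw =>
    hM (sieg_mem hQ hu huw)
  obtain ⟨u, hu, hu0, hRu⟩ := exists_rootIn_singular hQ hodd hn hM hg hg'
  have huu : B u u = 0 := by rw [polar_self hQ, hu, mul_zero]
  have hne : ∀ c : F, c • (0 : ι → F) ≠ u := fun c hc => hu0 (by simpa using hc.symm)
  -- a second such root group, not orthogonal to the first
  obtain ⟨z, -, hz, hzu⟩ := exists_singular_not_orth' hQ hodd (by omega) hne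
  obtain ⟨w, hw, hQw⟩ := dotsKer_not_orth hQ ![leftVec B z] (by omega)
  have hwz : B w z = 0 := by have := (mem_dotsKer.mp hw) 0; simpa [leftVec_dot hQ] using this
  have hiso : ∀ x, Q ((sieg Q z w : Matrix ι ι F) *ᵥ x) = Q x := sieg_quad hQ hz hwz
  set u₂ := (sieg Q z w : Matrix ι ι F) *ᵥ u with hu2
  have hR2 : RootIn M u₂ (leftVec B u₂) := by
    have := hRu.conj (hsM z w hz hwz)
    rwa [leftVec_conj_isometry hQ hiso] at this
  set k := B u₂ u with hk
  have hk0 : k ≠ 0 := by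
    have huz : B u z ≠ 0 := by rwa [polar_symm]
    rw [hk, hu2, sieg_mulVec hQ hz hwz, hs.sub_left, hs.add_left, hs.smul_left, hs.smul_left, huu,
      polar_symm w u, polar_symm z u,
      show 0 + B u z * B u w - (B u w + Q w * B u z) * B u z = -(Q w * B u z ^ 2) by ring]
    exact neg_ne_zero.mpr (mul_ne_zero hQw (pow_ne_zero _ huz))
  have hu22 : Q u₂ = 0 := by rw [hu2, hiso, hu]
  have hku : B u u₂ = k := polar_symm u u₂
  have h22 : leftVec B u₂ ⬝ᵥ u₂ = 0 := by rw [leftVec_dot hQ, polar_self hQ, hu22, mul_zero]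
  -- a root group whose centre and axis are not proportional
  set v' := u + k • u₂ with hv'
  set u' := u - k • u₂ with hu'
  have hR' : RootIn M v' (leftVec B u') := by
    have h := hRu.conj hR2.mem
    rw [tv_mulVec h22, leftVec_dot hQ, hku, tv_inv,
      vecMul_tv (by rw [dotProduct_neg, h22, neg_zero]), dotProduct_neg, leftVec_dot hQ, ← hk] at h
    convert h using 1
    rw [hu', sub_eq_add_neg, ← neg_smul, hs.leftVec_add, hs.leftVec_smul]
    rfl
  have hv'u' : B v' u' = 0 := by rw [← leftVec_dot hQ]; exact hR'.1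
  have hne' : ∀ c : F, c • u' ≠ v' := by
    intro c hc
    have e1 : B (c • u') u = B v' u := by rw [hc]
    have e2 : B (c • u') u₂ = B v' u₂ := by rw [hc]
    simp only [hu', hv', hs.smul_left, hs.sub_left, hs.add_left, huu, hku, ← hk, polar_self hQ u₂,
      hu22, mul_zero, sub_zero, zero_sub, zero_add, add_zero] at e1 e2
    have hc1 : c = 1 := (mul_eq_right₀ hk0).mp e2
    rw [hc1, one_mul] at e1
    have : 2 * (k * k) = 0 := by linear_combination -e1
    simp [h2, hk0] at this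
  have hu'0 : u' ≠ 0 := by
    intro h
    have e : B u' u₂ = 0 := by rw [h, hs.zero_left]
    rw [hu', hs.sub_left, hs.smul_left, hku, polar_self hQ, hu22] at e
    exact hk0 (by linear_combination e)
  have hfull : FullAxis M (leftVec B u') := by
    refine fullAxis_of_centres fun v hv => ?_
    rw [leftVec_dot hQ] at hv
    refine le_of_sieg_invariant hQ hodd (by omega) hv'u' hne' _ (mem_centres.mpr hR')
      (fun a b ha hau hbu hba y hy => ?_) v hv
    have hfix : (sieg Q a b : Matrix ι ι F) *ᵥ u' = u' := by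
      rw [sieg_mulVec hQ ha hba, polar_symm u' a, hau, polar_symm u' b, hbu]
      simp
    have := (mem_centres.mp hy).conj (hsM a b ha hba)
    rw [leftVec_conj_isometry hQ (sieg_quad hQ ha hba), hfix] at this
    exact this
  refine specialLinear_le_of_fullAxis (fun X hX => ?_) (hs.leftVec_ne_zero hu'0) hfull
  by_contra hcon
  push Not at hcon
  obtain ⟨x, hxX, hx0⟩ := Submodule.exists_mem_ne_zero_of_ne_bot hcon.1
  refine hcon.2 (Submodule.eq_top_iff'.mpr fun v => ?_)
  exact le_of_sieg_invariant hQ hodd (by omega) (hs.zero_right x)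
    (fun c hc => hx0 (by simpa using hc.symm)) X hxX
    (fun a b ha _ _ hba y hy => hX _ (hsM a b ha hba) y hy) v (hs.zero_right v)

/-- In dimension at least six and odd characteristic the similarity group of a quadratic form is
maximal in `SL`. -/
theorem isMaximalIn_quadratic (hQ : IsNondegenerateQuadraticForm Q) (hodd : Odd (Fintype.card F))
    (hn : 6 ≤ Fintype.card ι) :
    IsMaximalIn (specialLinear ι F) (quadSimilarityGroup Q ⊓ specialLinear ι F) := by
  refine isMaximalIn_of inf_le_right ?_ fun M hHM hMK g hg hg' =>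
    specialLinear_le_of_quadratic hQ hodd hn hHM hg fun h => hg' ⟨h, hMK hg⟩
  obtain ⟨v, a, h⟩ := (sesqForm_of_quadratic hQ).exists_tv_not_similar (by omega)
  refine ⟨tv v a, tv_mem_specialLinear v a, fun h' => h ?_⟩
  obtain ⟨c, hc⟩ := h'.1
  exact ⟨c, fun x y => by simp only [QuadraticMap.polar, ← mulVec_add, hc]; ring⟩

end CfsgLib.SimilarityMax
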